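import Mathlib
import Cfsg.Prelude.Def_Local
import Cfsg.Agent.Lib.Grp.Coprime
import Cfsg.Agent.Lib.Grp.Quasisimple

/-!
A perfect group `A = [A, R]` centralising the fixed points of `R` on an abelian group without invariant
subgroups acts trivially on it, given the Shult-type module theorem.
-/

set_option autoImplicit false

namespace Cfsg.Agent.Grp.FlavellCoprime

open Subgroup
open scoped commutatorElement

universe u

/-- The Shult-type module theorem, in the weak form used here. -/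
def ModuleStep : Prop :=
  ∀ (X : Type u) [Group X] [Finite X] (G R : Subgroup X) [G.Normal], G ⊔ R = ⊤ →
    ∀ r : ℕ, r.Prime → Nat.card R = r → ¬ r ∣ Nat.card G →
    ∀ (p : ℕ) [Fact p.Prime] (V : Type u) [AddCommGroup V] [Module (ZMod p) V]
      [FiniteDimensional (ZMod p) V] [Nontrivial V] (ρ : Representation (ZMod p) X V), Function.Injective ρ →
      (∀ W : Submodule (ZMod p) V, (∀ x : X, W.map (ρ x) ≤ W) → W = ⊥ ∨ W = ⊤) →
      (∀ v : V, (∀ x ∈ R, ρ x v = v) → v = 0) → IsPGroup 2 ↥⁅G, R⁆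

/-- `A` is a perfect `R`-invariant group with `A = [A, R]`, acting coprimely with `R` on `N` and
centralising the fixed points of `R`. -/
structure Setting {Γ : Type u} [Group Γ] (N A R : Subgroup Γ) (r : ℕ) : Prop where
  prime : r.Prime
  card : Nat.card R = r
  nA : A ≤ normalizer (N : Set Γ)
  nR : R ≤ normalizer (N : Set Γ)
  nRA : R ≤ normalizer (A : Set Γ)
  perf : ⁅A, A⁆ = A
  comm : ⁅A, R⁆ = A
  copA : ¬ r ∣ Nat.card A
  copN : ¬ r ∣ Nat.card N
  fix : A ≤ centralizer ((N ⊓ centralizer (R : Set Γ) : Subgroup Γ) : Set Γ)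

/-- Automorphisms of an elementary abelian group as linear maps. -/
def linAut (q : ℕ) (M : Type u) [CommGroup M] [Module (ZMod q) (Additive M)] :
    MulAut M →* Module.End (ZMod q) (Additive M) where
  toFun f := (f.toMonoidHom.toAdditive).toZModLinearMap q
  map_one' := LinearMap.ext fun _ => rfl
  map_mul' _ _ := LinearMap.ext fun _ => rfl

theorem linAut_injective (q : ℕ) (M : Type u) [CommGroup M] [Module (ZMod q) (Additive M)] :
    Function.Injective (linAut q M) := fun _ _ hfg => MulEquiv.ext fun m =>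
  Additive.ofMul.injective (LinearMap.congr_fun hfg (Additive.ofMul m))

/-- The module theorem for a group of automorphisms of an elementary abelian group. -/
theorem moduleStep_mulAut (hS : ModuleStep.{u}) {q : ℕ} [Fact q.Prime] {M : Type u} [CommGroup M] [Finite M]
    [Nontrivial M] (hexp : ∀ m : M, m ^ q = 1) (X : Subgroup (MulAut M)) [Finite X] (G R : Subgroup X) [G.Normal]
    (htop : G ⊔ R = ⊤) {r : ℕ} (hr : r.Prime) (hRc : Nat.card R = r) (hGc : ¬ r ∣ Nat.card G)
    (hirr : ∀ W : Subgroup M, (∀ x : X, ∀ m ∈ W, (x : MulAut M) m ∈ W) → W = ⊥ ∨ W = ⊤)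
    (hfix : ∀ m : M, (∀ x ∈ R, (x : MulAut M) m = m) → m = 1) : IsPGroup 2 ↥⁅G, R⁆ := by
  letI : Module (ZMod q) (Additive M) :=
    AddCommGroup.zmodModule (n := q) fun x => Additive.toMul.injective (hexp (Additive.toMul x))
  haveI : Module.Finite (ZMod q) (Additive M) := Module.Finite.of_finite
  refine hS X G R htop r hr hRc hGc q (Additive M) ((linAut q M).comp X.subtype)
    ((linAut_injective q M).comp X.subtype_injective) (fun W hW => ?_) (fun v hv => ?_)
  · rcases hirr (AddSubgroup.toSubgroup' W.toAddSubgroup) (fun x m hm => hW x ⟨_, hm, rfl⟩) with e | e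
    · refine Or.inl ((Submodule.eq_bot_iff W).mpr fun v hv => ?_)
      exact Additive.toMul.injective ((Subgroup.eq_bot_iff_forall _).mp e (Additive.toMul v) hv)
    · exact Or.inr (eq_top_iff.mpr fun v _ => (Subgroup.eq_top_iff' _).mp e (Additive.toMul v))
  · exact Additive.toMul.injective (hfix (Additive.toMul v) fun x hx => Additive.ofMul.injective (hv x hx))

namespace Setting

variable {Γ : Type u} [Group Γ] [Finite Γ] {N A R : Subgroup Γ} {r : ℕ} (h : Setting N A R r)
include h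

theorem solvR : Group.IsSolvable R := by
  haveI := Fact.mk h.prime
  haveI : IsCyclic R := isCyclic_of_prime_card h.card
  exact Group.isSolvable_of_comm fun a b => (IsCyclic.commGroup (α := R)).mul_comm a b

theorem cop {K : Subgroup Γ} (hK : ¬ r ∣ Nat.card K) : (Nat.card R).Coprime (Nat.card K) := by
  rw [h.card]; exact h.prime.coprime_iff_not_dvd.mpr hK

/-- The module case. -/
theorem centralizes_abelian (hS : ModuleStep.{u}) {q : ℕ} [Fact q.Prime]
    (hcomm : ∀ a ∈ N, ∀ b ∈ N, a * b = b * a) (hexp : ∀ a ∈ N, a ^ q = 1)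
    (hfix : N ⊓ centralizer (R : Set Γ) = ⊥)
    (hirr : ∀ M : Subgroup Γ, M ≤ N → A ≤ normalizer (M : Set Γ) → R ≤ normalizer (M : Set Γ) → M = ⊥ ∨ M = N) :
    A ≤ centralizer (N : Set Γ) := by
  classical
  rcases eq_or_ne N ⊥ with rfl | hN
  · intro a _
    exact mem_centralizer_iff.mpr fun x hx => by
      rw [SetLike.mem_coe, mem_bot] at hx
      rw [hx, one_mul, mul_one]
  letI : CommGroup ↥N := { (inferInstance : Group ↥N) with mul_comm := fun a b => Subtype.ext (hcomm a a.2 b b.2) }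
  haveI : Nontrivial ↥N := (Subgroup.nontrivial_iff_ne_bot N).mpr hN
  have hY : A ⊔ R ≤ normalizer (N : Set Γ) := sup_le h.nA h.nR
  let φ : ↥(A ⊔ R) →* MulAut ↥N := N.normalizerMonoidHom.comp (Subgroup.inclusion hY)
  let X := φ.range
  haveI : Finite X := Finite.of_surjective _ φ.rangeRestrict_surjective
  have hAn : (A.subgroupOf (A ⊔ R)).Normal :=
    Subgroup.normal_subgroupOf_of_le_normalizer (sup_le le_normalizer h.nRA)
  obtain ⟨G', hG'⟩ : ∃ G', G' = (A.subgroupOf (A ⊔ R)).map φ.rangeRestrict := ⟨_, rfl⟩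
  obtain ⟨R', hR'⟩ : ∃ R', R' = (R.subgroupOf (A ⊔ R)).map φ.rangeRestrict := ⟨_, rfl⟩
  haveI : G'.Normal := hG' ▸ hAn.map _ φ.rangeRestrict_surjective
  have htop : G' ⊔ R' = ⊤ := by
    rw [hG', hR', ← Subgroup.map_sup, ← Subgroup.subgroupOf_sup le_sup_left le_sup_right,
      Subgroup.subgroupOf_self, Subgroup.map_top_of_surjective _ φ.rangeRestrict_surjective]
  have hval : ∀ (y : ↥(A ⊔ R)) (n : ↥N), (((φ.rangeRestrict y : X) : MulAut ↥N) n : Γ) = y * n * (y : Γ)⁻¹ :=
    fun y n => rfl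
  have hR'c : Nat.card R' = r := by
    have hd : Nat.card R' ∣ r := hR' ▸ (Subgroup.card_map_dvd _ _).trans
      (by rw [Nat.card_congr (Subgroup.subgroupOfEquivOfLe le_sup_right).toEquiv, h.card])
    refine (h.prime.eq_one_or_self_of_dvd _ hd).resolve_left fun h1 => hN ?_
    rw [Subgroup.card_eq_one, hR', Subgroup.map_eq_bot_iff] at h1
    refine le_bot_iff.mp (hfix ▸ le_inf le_rfl fun n hn => mem_centralizer_iff.mpr fun x hx => ?_)
    have h2 : φ.rangeRestrict ⟨x, mem_sup_right hx⟩ = 1 := h1 (show (⟨x, mem_sup_right hx⟩ : ↥(A ⊔ R)) ∈ _ from hx)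
    have h3 := hval ⟨x, mem_sup_right hx⟩ ⟨n, hn⟩
    rw [h2] at h3
    exact (eq_mul_inv_iff_mul_eq.mp h3).symm
  have hG'c : ¬ r ∣ Nat.card G' := fun hd => h.copA (hd.trans (hG' ▸ (Subgroup.card_map_dvd _ _).trans
    (by rw [Nat.card_congr (Subgroup.subgroupOfEquivOfLe le_sup_left).toEquiv])))
  have h2 := moduleStep_mulAut hS (fun m : ↥N => Subtype.ext (hexp m m.2)) X G' R' htop h.prime hR'c hG'c
    (fun W hW => by
    have hMinv : ∀ y : Γ, y ∈ A ⊔ R → ∀ m ∈ W.map N.subtype, y * m * y⁻¹ ∈ W.map N.subtype := by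
      rintro y hy _ ⟨n, hn, rfl⟩
      exact ⟨_, hW (φ.rangeRestrict ⟨y, hy⟩) n hn, hval ⟨y, hy⟩ n⟩
    have hnorm : A ⊔ R ≤ normalizer ((W.map N.subtype : Subgroup Γ) : Set Γ) := fun y hy =>
      mem_normalizer_fintype fun m hm => hMinv y hy m hm
    rcases hirr (W.map N.subtype) (map_subtype_le W) (le_sup_left.trans hnorm) (le_sup_right.trans hnorm) with e | e
    · exact Or.inl ((W.map_eq_bot_iff_of_injective N.subtype_injective).mp e)
    · refine Or.inr (Subgroup.map_injective N.subtype_injective ?_)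
      rw [e, ← MonoidHom.range_eq_map, Subgroup.range_subtype])
    (fun n hv => by
      have hn : (n : Γ) ∈ N ⊓ centralizer (R : Set Γ) := mem_inf.mpr ⟨n.2, mem_centralizer_iff.mpr fun x hx => by
        have h1 := hv (φ.rangeRestrict ⟨x, mem_sup_right hx⟩) (hR' ▸ ⟨⟨x, mem_sup_right hx⟩, hx, rfl⟩)
        have h3 := hval ⟨x, mem_sup_right hx⟩ n
        rw [h1] at h3
        exact (eq_mul_inv_iff_mul_eq.mp h3).symm⟩
      rw [hfix, mem_bot] at hn
      exact Subtype.ext hn)
  have hcomm' : ⁅G', R'⁆ = G' := by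
    rw [hG', hR', ← Subgroup.map_commutator]
    congr 1
    refine Subgroup.map_injective (Subgroup.subtype_injective (A ⊔ R)) ?_
    rw [Subgroup.map_commutator, Subgroup.map_subgroupOf_eq_of_le le_sup_left,
      Subgroup.map_subgroupOf_eq_of_le le_sup_right, h.comm]
  have hperf' : ⁅G', G'⁆ = G' := by
    rw [hG', ← Subgroup.map_commutator]
    congr 1
    refine Subgroup.map_injective (Subgroup.subtype_injective (A ⊔ R)) ?_
    rw [Subgroup.map_commutator, Subgroup.map_subgroupOf_eq_of_le le_sup_left, h.perf]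
  rw [hcomm'] at h2
  haveI : Fact (Nat.Prime 2) := ⟨Nat.prime_two⟩
  have h4 := eq_bot_of_perfect_of_solvable hperf' (@IsNilpotent.to_isSolvable _ _ h2.isNilpotent)
  rw [hG', Subgroup.map_eq_bot_iff] at h4
  intro a ha
  have h5 : φ.rangeRestrict ⟨a, mem_sup_left ha⟩ = 1 := h4 (show (⟨a, mem_sup_left ha⟩ : ↥(A ⊔ R)) ∈ _ from ha)
  refine mem_centralizer_iff.mpr fun n hn => ?_
  have h6 := hval ⟨a, mem_sup_left ha⟩ ⟨n, hn⟩
  rw [h5] at h6
  exact eq_mul_inv_iff_mul_eq.mp h6

end Setting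

end Cfsg.Agent.Grp.FlavellCoprime
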