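import Mathlib
import Cfsg.Agent.Lib.Grp.FlavellCoprime.Module
import Cfsg.Agent.Lib.Grp.Components
import Cfsg.Agent.Lib.Grp.FpfPrime
import Cfsg.Agent.S0205
import Cfsg.Agent.S0227

/-!
Auxiliary lemmas for perfect groups acting with a coprime group of prime order.
-/

set_option autoImplicit false

namespace Cfsg.Agent.Grp.FlavellCoprime

open Subgroup
open scoped commutatorElement

universe u

section General

variable {Γ : Type u} [Group Γ]

/-- A perfect group centralising the factors of a series of length two centralises the group. -/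
theorem le_centralizer_of_perfect {N A : Subgroup Γ} (hp : ⁅A, A⁆ = A)
    (h : ⁅⁅N, A⁆, A⁆ = ⊥) : A ≤ centralizer (N : Set Γ) := by
  have h1 : ⁅⁅A, A⁆, N⁆ = ⊥ :=
    commutator_commutator_eq_bot_of_rotate (by rw [commutator_comm A N]; exact h) h
  rw [hp] at h1
  exact commutator_eq_bot_iff_le_centralizer.mp h1

/-- Two subgroups of the normaliser of `N` have commutator modulo `N` generated by theirs. -/
theorem commutator_sup_le {N B C : Subgroup Γ} (hB : B ≤ normalizer (N : Set Γ))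
    (hC : C ≤ normalizer (N : Set Γ)) : ⁅N ⊔ B, N ⊔ C⁆ ≤ N ⊔ ⁅B, C⁆ := by
  obtain ⟨Y, hY⟩ : ∃ Y, Y = normalizer (N : Set Γ) := ⟨_, rfl⟩
  have hN : N ≤ Y := hY ▸ le_normalizer
  haveI : (N.subgroupOf Y).Normal := normal_subgroupOf_of_le_normalizer hY.le
  let π := QuotientGroup.mk' (N.subgroupOf Y)
  have hN0 : (N.subgroupOf Y).map π = ⊥ := QuotientGroup.map_mk'_self _
  have key : ∀ {D : Subgroup Γ}, D ≤ Y → ((N ⊔ D).subgroupOf Y).map π = (D.subgroupOf Y).map π := by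
    intro D hD
    rw [subgroupOf_sup hN hD, Subgroup.map_sup, hN0, bot_sup_eq]
  have hle : (⁅N ⊔ B, N ⊔ C⁆).subgroupOf Y ≤ (N ⊔ ⁅B, C⁆).subgroupOf Y := by
    have hBY : B ≤ Y := hY ▸ hB
    have hCY : C ≤ Y := hY ▸ hC
    have hsub : ∀ {P Q : Subgroup Γ}, P ≤ Y → Q ≤ Y →
        (⁅P, Q⁆).subgroupOf Y = ⁅P.subgroupOf Y, Q.subgroupOf Y⁆ := by
      intro P Q hP hQ
      refine Subgroup.map_injective Y.subtype_injective ?_
      rw [Subgroup.map_commutator, Subgroup.map_subgroupOf_eq_of_le hP, Subgroup.map_subgroupOf_eq_of_le hQ,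
        Subgroup.map_subgroupOf_eq_of_le ((commutator_le_self Y).trans' (commutator_mono hP hQ))]
    have hBC : ⁅B, C⁆ ≤ Y := (commutator_le_self Y).trans' (commutator_mono hBY hCY)
    have h1 : ((⁅N ⊔ B, N ⊔ C⁆).subgroupOf Y).map π ≤ ((N ⊔ ⁅B, C⁆).subgroupOf Y).map π := by
      rw [hsub (sup_le hN hBY) (sup_le hN hCY), Subgroup.map_commutator, key hBY, key hCY, key hBC,
        ← Subgroup.map_commutator, hsub hBY hCY]
    rw [Subgroup.map_le_iff_le_comap, Subgroup.comap_map_eq, QuotientGroup.ker_mk'] at h1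
    refine h1.trans (sup_le le_rfl ?_)
    exact Subgroup.comap_mono le_sup_left
  have hmem : ⁅N ⊔ B, N ⊔ C⁆ ≤ Y :=
    (commutator_le_self Y).trans' (commutator_mono (sup_le hN (hY ▸ hB)) (sup_le hN (hY ▸ hC)))
  intro x hx
  exact mem_subgroupOf.mp (hle (show (⟨x, hmem hx⟩ : ↥Y) ∈ _ from hx))

variable [Finite Γ]

/-- A group of prime order is generated by one element. -/
theorem exists_gen {R : Subgroup Γ} {r : ℕ} (hr : r.Prime) (hR : Nat.card R = r) :
    ∃ b : Γ, R = zpowers b ∧ orderOf b = r ∧ centralizer (R : Set Γ) = centralizer {b} := by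
  haveI := Fact.mk hr
  obtain ⟨⟨b, hb⟩, hb1⟩ := exists_prime_orderOf_dvd_card' (G := ↥R) r (by rw [hR])
  rw [Subgroup.orderOf_mk] at hb1
  have hz : R = zpowers b :=
    (eq_of_le_of_card_ge (zpowers_le.mpr hb) (by rw [hR, Nat.card_zpowers, hb1])).symm
  refine ⟨b, hz, hb1, ?_⟩
  rw [hz, zpowers_eq_closure, centralizer_closure]

/-- A nonsolvable invariant subgroup contains a nontrivial fixed point. -/
theorem inf_centralizer_ne_bot {L R : Subgroup Γ} {r : ℕ} (hr : r.Prime) (hR : Nat.card R = r)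
    (hL : R ≤ normalizer (L : Set Γ)) (hs : ¬ Group.IsSolvable L) :
    L ⊓ centralizer (R : Set Γ) ≠ ⊥ := by
  haveI := Fact.mk hr
  obtain ⟨b, hb, hbo, hC⟩ := exists_gen hr hR
  intro h
  rw [hC] at h
  haveI := isNilpotent_of_fpf (p := r) (hbo ▸ pow_orderOf_eq_one b) (hL (hb ▸ mem_zpowers b)) h
  exact hs inferInstance

/-- A group all whose fixed points are central is solvable. -/
theorem isSolvable_of_fixed_central {K R : Subgroup Γ} {r : ℕ} (hr : r.Prime) (hR : Nat.card R = r)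
    (hK : R ≤ normalizer (K : Set Γ)) (hcop : ¬ r ∣ Nat.card K)
    (hz : K ≤ centralizer ((K ⊓ centralizer (R : Set Γ) : Subgroup Γ) : Set Γ)) :
    Group.IsSolvable K := by
  haveI := Fact.mk hr
  obtain ⟨b, hb, hbo, hC⟩ := exists_gen hr hR
  obtain ⟨Z, hZ⟩ : ∃ Z, Z = K ⊓ centralizer (R : Set Γ) := ⟨_, rfl⟩
  rw [← hZ] at hz
  obtain ⟨Y, hY⟩ : ∃ Y, Y = normalizer (Z : Set Γ) := ⟨_, rfl⟩
  have hKY : K ≤ Y := hY ▸ hz.trans (centralizer_le_normalizer _)
  have hRZ : R ≤ centralizer (Z : Set Γ) := by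
    rw [le_centralizer_iff, hZ]; exact inf_le_right
  have hRY : R ≤ Y := hY ▸ hRZ.trans (centralizer_le_normalizer _)
  haveI : (Z.subgroupOf Y).Normal := normal_subgroupOf_of_le_normalizer hY.le
  let π := QuotientGroup.mk' (Z.subgroupOf Y)
  have hcR : (Nat.card R).Coprime (Nat.card K) := by rw [hR]; exact hr.coprime_iff_not_dvd.mpr hcop
  have hbR : b ∈ R := hb ▸ mem_zpowers b
  have hfix : (K.subgroupOf Y).map π ⊓ centralizer {π ⟨b, hRY hbR⟩} = ⊥ := by
    refine (Subgroup.eq_bot_iff_forall _).mpr ?_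
    rintro _ ⟨⟨k, hk, rfl⟩, hkc⟩
    have hkc' := mem_centralizer_singleton_iff.mp hkc
    have hmem : ∀ a ∈ R, a * (k : Γ) * a⁻¹ * (k : Γ)⁻¹ ∈ Z := by
      intro a ha
      obtain ⟨j, hj⟩ := mem_zpowers_iff.mp (hb ▸ ha : a ∈ zpowers b)
      have e : Commute (π ⟨a, hRY ha⟩) (π k) := by
        rw [show (⟨a, hRY ha⟩ : ↥Y) = ⟨b, hRY hbR⟩ ^ j from Subtype.ext (by simp [hj]), map_zpow]
        exact (show Commute (π ⟨b, hRY hbR⟩) (π k) from hkc'.symm).zpow_left j
      have e2 : π (⟨a, hRY ha⟩ * k * (⟨a, hRY ha⟩)⁻¹ * k⁻¹) = 1 := by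
        rw [map_mul, map_mul, map_mul, map_inv, map_inv, e.eq]; group
      exact mem_subgroupOf.mp ((QuotientGroup.eq_one_iff _).mp e2)
    have hZK : Z ≤ K := hZ ▸ inf_le_left
    haveI hRs : Group.IsSolvable R := by
      haveI : IsCyclic R := isCyclic_of_prime_card hR
      exact Group.isSolvable_of_comm fun x y => (IsCyclic.commGroup (α := R)).mul_comm x y
    obtain ⟨c, hc, hkc2⟩ := exists_fixed_rep R K Z hK (inf_eq_bot_of_coprime hcR)
      (hcR.coprime_dvd_right (card_dvd_of_le hZK)) (Or.inl hRs) hZK (hKY.trans hY.le)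
      (hRY.trans hY.le) (mem_subgroupOf.mp hk) hmem
    have hkZ : (k : Γ) ∈ Z := by
      have h1 := Z.mul_mem (hZ ▸ hc : c ∈ Z) (Z.inv_mem hkc2)
      simpa using h1
    exact (QuotientGroup.eq_one_iff _).mpr (mem_subgroupOf.mpr hkZ)
  have hnorm : π ⟨b, hRY hbR⟩ ∈ normalizer (((K.subgroupOf Y).map π : Subgroup _) : Set (↥Y ⧸ Z.subgroupOf Y)) := by
    refine le_normalizer_map π ⟨⟨b, hRY hbR⟩, ?_, rfl⟩
    refine mem_normalizer_iff.mpr fun y => ?_
    rw [mem_subgroupOf, mem_subgroupOf]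
    exact mem_normalizer_iff.mp (hK hbR) y
  have hb1 : π ⟨b, hRY hbR⟩ ^ r = 1 := by
    rw [← map_pow, show (⟨b, hRY hbR⟩ : ↥Y) ^ r = 1 from Subtype.ext (by
      simp [← hbo, pow_orderOf_eq_one]), map_one]
  haveI := isNilpotent_of_fpf (p := r) hb1 hnorm hfix
  haveI hs : Group.IsSolvable ((K.subgroupOf Y).map π : Subgroup _) := inferInstance
  let f : ↥K →* ↥((K.subgroupOf Y).map π) :=
    { toFun := fun k => ⟨π ⟨k, hKY k.2⟩, ⟨⟨k, hKY k.2⟩, k.2, rfl⟩⟩
      map_one' := Subtype.ext (map_one π)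
      map_mul' := fun x y => Subtype.ext (map_mul π ⟨x, hKY x.2⟩ ⟨y, hKY y.2⟩) }
  have hker : ∀ x ∈ f.ker, ∀ y : ↥K, x * y = y * x := by
    intro x hx y
    have h1 : π ⟨x, hKY x.2⟩ = 1 := congrArg Subtype.val (MonoidHom.mem_ker.mp hx)
    exact Subtype.ext (mem_centralizer_iff.mp (hz y.2) x (mem_subgroupOf.mp ((QuotientGroup.eq_one_iff (N := Z.subgroupOf Y) (⟨x, hKY x.2⟩ : ↥Y)).mp h1)))
  haveI : Group.IsSolvable f.ker :=
    Group.isSolvable_of_comm fun x y => Subtype.ext (hker x x.2 y)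
  exact Group.isSolvable_of_ker_le_range (Subgroup.subtype f.ker) f (by rw [Subgroup.range_subtype])

/-- A perfect group inducing a solvable group of automorphisms centralises. -/
theorem le_centralizer_of_solvable_image {N A : Subgroup Γ} (hA : A ≤ normalizer (N : Set Γ))
    (hp : ⁅A, A⁆ = A) (S : Subgroup (MulAut ↥N)) (hS : Group.IsSolvable S)
    (h : ∀ a : ↥A, N.normalizerMonoidHom ⟨a, hA a.2⟩ ∈ S) : A ≤ centralizer (N : Set Γ) := by
  obtain ⟨B, hB⟩ : ∃ B, B = (N.normalizerMonoidHom.comp (Subgroup.inclusion hA)).range := ⟨_, rfl⟩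
  have hBS : B ≤ S := by rw [hB]; rintro _ ⟨a, rfl⟩; exact h a
  have hBp : ⁅B, B⁆ = B := by
    rw [hB, MonoidHom.range_eq_map, ← Subgroup.map_commutator]
    congr 1
    refine Subgroup.map_injective A.subtype_injective ?_
    rw [Subgroup.map_commutator, ← MonoidHom.range_eq_map, Subgroup.range_subtype, hp]
  have hB1 := eq_bot_of_perfect_of_solvable hBp (isSolvable_of_le hBS hS)
  intro a ha
  have h1 : N.normalizerMonoidHom ⟨a, hA ha⟩ = 1 := (Subgroup.eq_bot_iff_forall _).mp hB1 _ (hB ▸ ⟨⟨a, ha⟩, rfl⟩)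
  refine mem_centralizer_iff.mpr fun n hn => ?_
  have h2 : a * n * a⁻¹ = n := congrArg Subtype.val (DFunLike.congr_fun h1 (⟨n, hn⟩ : ↥N))
  exact (mul_inv_eq_iff_eq_mul.mp h2).symm

/-- A perfect group centralising a Sylow 2-subgroup of a core-free group centralises the group. -/
theorem le_centralizer_of_sylow {N A Q : Subgroup Γ} (hO : ∀ M : Subgroup ↥N, M.Normal → Odd (Nat.card M) → M = ⊥)
    (hA : A ≤ normalizer (N : Set Γ)) (hp : ⁅A, A⁆ = A) (hQ : IsSylowIn 2 Q N)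
    (hAQ : A ≤ centralizer (Q : Set Γ)) : A ≤ centralizer (N : Set Γ) := by
  classical
  haveI : Fact (Nat.Prime 2) := ⟨Nat.prime_two⟩
  obtain ⟨S, hS⟩ := isSylowIn_iff.mp hQ
  let C : Subgroup (MulAut ↥N) :=
    { carrier := {f | ∀ s : ↥N, s ∈ S → f s = s}
      one_mem' := fun s _ => rfl
      mul_mem' := fun hf hg s hs => by rw [MulAut.mul_apply, hg s hs, hf s hs]
      inv_mem' := fun {f} hf s hs => by
        conv_lhs => rw [← hf s hs]
        exact f.symm_apply_apply s }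
  refine le_centralizer_of_solvable_image hA hp C (Cfsg.Agent.S0227.result hO S C (fun f => Iff.rfl)).2 ?_
  intro a s hs
  have hsQ : (s : Γ) ∈ Q := hS ▸ ⟨s, hs, rfl⟩
  refine Subtype.ext ?_
  show (a : Γ) * s * (a : Γ)⁻¹ = s
  rw [mul_inv_eq_iff_eq_mul]
  exact (mem_centralizer_iff.mp (hAQ a.2) s hsQ).symm

end General

end Cfsg.Agent.Grp.FlavellCoprime
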