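import Mathlib
import Cfsg.Agent.Lib.Grp.FlavellCoprime.Basic
import Cfsg.Agent.Lib.Grp.CoreComponentAction

/-!
The minimal case: no invariant proper subgroup. Reduction to a group which is a simple group.
-/

set_option autoImplicit false

namespace Cfsg.Agent.Grp.FlavellCoprime

open Subgroup MulAction
open scoped commutatorElement

universe u

variable {Γ : Type u} [Group Γ] [Finite Γ] {N A R : Subgroup Γ} {r : ℕ}

/-- The statement for groups of smaller order. -/
def SmallerCases (n : ℕ) : Prop :=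
  ∀ (Δ : Type u) [Group Δ] [Finite Δ] (N A R : Subgroup Δ) (r : ℕ), Nat.card N < n → Setting N A R r →
    A ≤ centralizer (N : Set Δ)

namespace Setting

variable (h : Setting N A R r)
include h

omit [Finite Γ] in
theorem restrict {M : Subgroup Γ} (hMN : M ≤ N) (hA : A ≤ normalizer (M : Set Γ))
    (hR : R ≤ normalizer (M : Set Γ)) : Setting M A R r where
  prime := h.prime
  card := h.card
  nA := hA
  nR := hR
  nRA := h.nRA
  perf := h.perf
  comm := h.comm
  copA := h.copA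
  copN := fun hd => h.copN (hd.trans (card_dvd_of_le hMN))
  fix := fun a ha => mem_centralizer_iff.mpr fun x hx =>
    mem_centralizer_iff.mp (h.fix ha) x (inf_le_inf_right _ hMN hx)

/-- An invariant normal subgroup reduces the order. -/
theorem of_invariant (hIH : SmallerCases.{u} (Nat.card N)) {M : Subgroup Γ} (hMN : M ≤ N)
    (hN : N ≤ normalizer (M : Set Γ)) (hA : A ≤ normalizer (M : Set Γ)) (hR : R ≤ normalizer (M : Set Γ))
    (hM1 : M ≠ ⊥) (hM2 : M ≠ N) : A ≤ centralizer (N : Set Γ) := by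
  have hsmall : Nat.card M < Nat.card N :=
    lt_of_le_of_ne (card_le_of_le hMN) fun e => hM2 (eq_of_le_of_card_ge hMN e.ge)
  have hM : A ≤ centralizer (M : Set Γ) := hIH Γ M A R r hsmall (h.restrict hMN hA hR)
  obtain ⟨Y, hY⟩ : ∃ Y, Y = normalizer (M : Set Γ) := ⟨_, rfl⟩
  rw [← hY] at hN hA hR
  haveI : (M.subgroupOf Y).Normal := normal_subgroupOf_of_le_normalizer hY.le
  obtain ⟨π, hπ⟩ : ∃ π, π = QuotientGroup.mk' (M.subgroupOf Y) := ⟨_, rfl⟩
  have hker : π.ker = M.subgroupOf Y := by rw [hπ, QuotientGroup.ker_mk']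
  let img : Subgroup Γ → Subgroup (↥Y ⧸ M.subgroupOf Y) := fun D => (D.subgroupOf Y).map π
  have hnorm : ∀ {B D : Subgroup Γ}, B ≤ Y → B ≤ normalizer (D : Set Γ) →
      img B ≤ normalizer (img D : Set (↥Y ⧸ M.subgroupOf Y)) := by
    intro B D hB hBD
    rintro _ ⟨b, hb, rfl⟩
    refine le_normalizer_map π ⟨b, ?_, rfl⟩
    refine mem_normalizer_iff.mpr fun y => ?_
    rw [mem_subgroupOf, mem_subgroupOf]
    exact mem_normalizer_iff.mp (hBD hb) y
  have hdvd : ∀ {D : Subgroup Γ}, D ≤ Y → Nat.card (img D) ∣ Nat.card D := fun {D} hD =>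
    (card_map_dvd _ _).trans (by rw [Nat.card_congr (subgroupOfEquivOfLe hD).toEquiv])
  have hcomm : ∀ {B D : Subgroup Γ}, B ≤ Y → D ≤ Y → img ⁅B, D⁆ = ⁅img B, img D⁆ := by
    intro B D hB hD
    show Subgroup.map π _ = ⁅Subgroup.map π _, Subgroup.map π _⁆
    rw [← Subgroup.map_commutator]
    congr 1
    refine Subgroup.map_injective Y.subtype_injective ?_
    rw [Subgroup.map_commutator, map_subgroupOf_eq_of_le hB, map_subgroupOf_eq_of_le hD,
      map_subgroupOf_eq_of_le ((commutator_le_self Y).trans' (commutator_mono hB hD))]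
  have hcR : (Nat.card R).Coprime (Nat.card N) := h.cop h.copN
  have hRM : R ⊓ N = ⊥ := inf_eq_bot_of_coprime hcR
  have hMY : M ≤ Y := hY ▸ le_normalizer
  have hset : Setting (img N) (img A) (img R) r := by
    refine ⟨h.prime, ?_, hnorm hA h.nA, hnorm hR h.nR, hnorm hR h.nRA, ?_, ?_,
      fun hd => h.copA (hd.trans (hdvd hA)), fun hd => h.copN (hd.trans (hdvd hN)), ?_⟩
    · refine (h.prime.eq_one_or_self_of_dvd _ ((hdvd hR).trans h.card.dvd)).resolve_left fun h1 => ?_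
      have h2 : R.subgroupOf Y ≤ π.ker := (Subgroup.map_eq_bot_iff _).mp (card_eq_one.mp h1)
      rw [hker] at h2
      have h3 : R ≤ M := fun x hx => mem_subgroupOf.mp (h2 (show (⟨x, hR hx⟩ : ↥Y) ∈ R.subgroupOf Y from hx))
      have h4 : R = ⊥ := le_bot_iff.mp (hRM ▸ le_inf le_rfl (h3.trans hMN))
      have h5 := h.card
      rw [h4, card_bot] at h5
      exact h.prime.ne_one h5.symm
    · rw [← hcomm hA hA, h.perf]
    · rw [← hcomm hA hR, h.comm]
    · intro a' ha'
      obtain ⟨a, ha, rfl⟩ := ha'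
      refine mem_centralizer_iff.mpr ?_
      rintro x ⟨hxN, hxc⟩
      obtain ⟨k, hk, rfl⟩ := hxN
      have hmem : ∀ b ∈ R, b * (k : Γ) * b⁻¹ * (k : Γ)⁻¹ ∈ M := by
        intro b hb
        have e : π ⟨b, hR hb⟩ * π k = π k * π ⟨b, hR hb⟩ := mem_centralizer_iff.mp hxc _ ⟨_, hb, rfl⟩
        have e2 : π (⟨b, hR hb⟩ * k * (⟨b, hR hb⟩)⁻¹ * k⁻¹) = 1 := by
          rw [map_mul, map_mul, map_mul, map_inv, map_inv, e]; group
        rw [← MonoidHom.mem_ker, hker] at e2
        exact mem_subgroupOf.mp e2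
      obtain ⟨c, hc, hkc⟩ := exists_fixed_rep R N M h.nR hRM
        (hcR.coprime_dvd_right (card_dvd_of_le hMN)) (Or.inl h.solvR) hMN (hN.trans hY.le)
        (hR.trans hY.le) hk hmem
      have hπ1 : π k = π ⟨c, hN hc.1⟩ := by
        rw [MonoidHom.eq_iff, hker, mem_subgroupOf]
        have h6 := M.inv_mem hkc
        simpa using h6
      rw [hπ1, ← map_mul, ← map_mul]
      exact congrArg π (Subtype.ext (mem_centralizer_iff.mp (h.fix ha) c hc))
  have hlt : Nat.card (img N) < Nat.card N := by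
    have hle : Nat.card (img N) ≤ Nat.card N := Nat.le_of_dvd Nat.card_pos (hdvd hN)
    refine lt_of_le_of_ne hle fun e => hM1 ?_
    let f : ↥N → ↥(img N) := fun n => ⟨π ⟨n, hN n.2⟩, ⟨⟨n, hN n.2⟩, n.2, rfl⟩⟩
    have hf : Function.Surjective f := by
      rintro ⟨_, ⟨k, hk, rfl⟩⟩; exact ⟨⟨k, hk⟩, rfl⟩
    have hinj : Function.Injective f := (hf.bijective_of_nat_card_le e.ge).1
    refine (Subgroup.eq_bot_iff_forall _).mpr fun m hm => congrArg Subtype.val (hinj (a₁ := ⟨m, hMN hm⟩) (a₂ := 1) (Subtype.ext ?_))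
    show π ⟨m, _⟩ = π ⟨((1 : ↥N) : Γ), _⟩
    rw [MonoidHom.eq_iff, hker, mem_subgroupOf]
    simpa using hm
  have hres := hIH _ (img N) (img A) (img R) r hlt hset
  have hNA : ⁅N, A⁆ ≤ M := by
    rw [commutator_comm]
    have h7 : img ⁅A, N⁆ = ⊥ := by
      rw [hcomm hA hN]; exact commutator_eq_bot_iff_le_centralizer.mpr hres
    have h8 := (Subgroup.map_eq_bot_iff _).mp h7
    rw [hker] at h8
    intro x hx
    exact mem_subgroupOf.mp (h8 (show (⟨x, (commutator_le_self Y).trans' (commutator_mono hA hN) hx⟩ : ↥Y) ∈ _ from hx))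
  refine le_centralizer_of_perfect h.perf (le_bot_iff.mp ((commutator_mono hNA le_rfl).trans ?_))
  rw [commutator_comm]
  exact (commutator_eq_bot_iff_le_centralizer.mpr hM).le

/-- The commutative minimal case. -/
theorem of_abelian (hS : ModuleStep.{u}) (hc : ∀ a ∈ N, ∀ b ∈ N, a * b = b * a)
    (hmin : ∀ M : Subgroup Γ, M ≤ N → N ≤ normalizer (M : Set Γ) → A ≤ normalizer (M : Set Γ) →
      R ≤ normalizer (M : Set Γ) → M = ⊥ ∨ M = N) : A ≤ centralizer (N : Set Γ) := by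
  have hNn : ∀ M : Subgroup Γ, M ≤ N → N ≤ normalizer (M : Set Γ) := fun M hM n hn =>
    centralizer_le_normalizer _ (mem_centralizer_iff.mpr fun x hx => hc x (hM hx) n hn)
  rcases eq_or_ne N ⊥ with e | hN
  · intro a _
    refine mem_centralizer_iff.mpr fun x hx => ?_
    rw [e, SetLike.mem_coe, mem_bot] at hx
    rw [hx, one_mul, mul_one]
  obtain ⟨q, hq, hqd⟩ := Nat.exists_prime_and_dvd (fun e => hN (card_eq_one.mp e) : Nat.card N ≠ 1)
  haveI := Fact.mk hq
  obtain ⟨E, hE⟩ : ∃ E : Subgroup Γ, ∀ x, x ∈ E ↔ x ∈ N ∧ x ^ q = 1 := ⟨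
    { carrier := {x | x ∈ N ∧ x ^ q = 1}
      one_mem' := ⟨N.one_mem, one_pow q⟩
      mul_mem' := fun {a b} ha hb => ⟨N.mul_mem ha.1 hb.1, by
        rw [(show Commute a b from hc a ha.1 b hb.1).mul_pow, ha.2, hb.2, one_mul]⟩
      inv_mem' := fun {a} ha => ⟨N.inv_mem ha.1, by rw [inv_pow, ha.2, inv_one]⟩ }, fun x => Iff.rfl⟩
  have hEinv : ∀ y ∈ normalizer (N : Set Γ), y ∈ normalizer (E : Set Γ) := fun y hy =>
    mem_normalizer_fintype fun x hx => (hE _).mpr ⟨(mem_normalizer_iff.mp hy x).mp ((hE x).mp hx).1,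
      by rw [conj_pow, ((hE x).mp hx).2, mul_one, mul_inv_cancel]⟩
  have hEN : E ≤ N := fun x hx => ((hE x).mp hx).1
  have hEeq : E = N := (hmin E hEN (hNn E hEN) (fun a ha => hEinv a (h.nA ha))
    (fun a ha => hEinv a (h.nR ha))).resolve_left fun e => by
      obtain ⟨x, hx⟩ := exists_prime_orderOf_dvd_card' (G := ↥N) q hqd
      have h1 : (x : Γ) ∈ E := (hE _).mpr ⟨x.2, by rw [← Subgroup.coe_pow, ← hx, pow_orderOf_eq_one, coe_one]⟩
      rw [e, mem_bot] at h1
      rw [show x = 1 from Subtype.ext h1, orderOf_one] at hx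
      exact hq.ne_one hx.symm
  have hexp : ∀ a ∈ N, a ^ q = 1 := fun a ha => ((hE a).mp (hEeq.ge ha)).2
  obtain ⟨C, hC⟩ : ∃ C, C = N ⊓ centralizer (R : Set Γ) := ⟨_, rfl⟩
  have hCR : R ≤ normalizer (C : Set Γ) := fun x hx => centralizer_le_normalizer _
    (mem_centralizer_iff.mpr fun c hc' => (mem_centralizer_iff.mp ((hC ▸ hc' : c ∈ N ⊓ centralizer (R : Set Γ)).2) x hx).symm)
  rcases hmin C (hC ▸ inf_le_left) (hNn C (hC ▸ inf_le_left))
      (hC ▸ h.fix.trans (centralizer_le_normalizer _)) hCR with e | e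
  · exact h.centralizes_abelian hS hc hexp (hC ▸ e) fun M hM hA hR => hmin M hM (hNn M hM) hA hR
  · have h1 := h.fix
    rw [← hC, e] at h1
    exact h1

end Setting

end Cfsg.Agent.Grp.FlavellCoprime
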