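import Mathlib
import Cfsg.Agent.Lib.Grp.FlavellCoprime.Reduce

/-!
The minimal case with several components.
-/

set_option autoImplicit false

namespace Cfsg.Agent.Grp.FlavellCoprime

open Subgroup MulAction
open scoped commutatorElement Pointwise

universe u

section Diagonal

variable {Γ : Type*} [Group Γ]

/-- Conjugation shifts a cyclic product of commuting elements to itself. -/
theorem conj_prod_range {b x : Γ} {r : ℕ} (hr : 0 < r) (hb : b ^ r = 1)
    (hc : ∀ i, 0 < i → i < r → Commute x (b ^ i * x * (b ^ i)⁻¹)) :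
    b * ((List.range r).map fun i => b ^ i * x * (b ^ i)⁻¹).prod * b⁻¹ =
      ((List.range r).map fun i => b ^ i * x * (b ^ i)⁻¹).prod := by
  obtain ⟨k, rfl⟩ : ∃ k, r = k + 1 := ⟨r - 1, by omega⟩
  let g : ℕ → Γ := fun i => b ^ i * x * (b ^ i)⁻¹
  show MulAut.conj b (((List.range (k + 1)).map g).prod) = ((List.range (k + 1)).map g).prod
  have hP : MulAut.conj b (((List.range (k + 1)).map g).prod) =
      ((List.range k).map fun i => g (i + 1)).prod * x := by
    rw [map_list_prod, List.map_map, List.range_succ, List.map_append, List.prod_append]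
    have e : ∀ i, MulAut.conj b (g i) = g (i + 1) := fun i => by
      show b * (b ^ i * x * (b ^ i)⁻¹) * b⁻¹ = b ^ (i + 1) * x * (b ^ (i + 1))⁻¹
      rw [pow_succ']; group
    congr 1
    · exact congrArg List.prod (List.map_congr_left fun i _ => e i)
    · simp only [List.map_cons, List.map_nil, List.prod_cons, List.prod_nil, mul_one, Function.comp]
      rw [e]
      show b ^ (k + 1) * x * (b ^ (k + 1))⁻¹ = x
      rw [hb]; group
  rw [hP, List.range_succ_eq_map, List.map_cons, List.prod_cons, List.map_map]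
  show _ = (b ^ 0 * x * (b ^ 0)⁻¹) * ((List.range k).map fun i => g (i + 1)).prod
  rw [pow_zero, one_mul, inv_one, mul_one]
  refine (Commute.list_prod_right _ _ fun z hz => ?_).eq.symm
  obtain ⟨i, hi, rfl⟩ := List.mem_map.mp hz
  exact hc (i + 1) (Nat.succ_pos i) (Nat.succ_lt_succ (List.mem_range.mp hi))

end Diagonal

variable {Γ : Type u} [Group Γ] [Finite Γ] {N A R : Subgroup Γ} {r : ℕ}

theorem layerSet_eq (H : Subgroup Γ) : layerSet H = (Cfsg.layer ↥H).map H.subtype := by
  refine le_antisymm (sSup_le ?_) ?_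
  · rintro D ⟨E, hE, rfl⟩
    exact map_mono (IsComponent.le_layer hE)
  · rw [map_le_iff_le_comap]
    refine sSup_le fun E hE => ?_
    rw [← map_le_iff_le_comap]
    exact le_sSup ⟨E, hE, rfl⟩

theorem image_normalized (H : Subgroup Γ) (C : Subgroup ↥H) [C.Characteristic] {g : Γ}
    (hg : g ∈ normalizer (H : Set Γ)) : g ∈ normalizer ((C.map H.subtype : Subgroup Γ) : Set Γ) := by
  refine mem_normalizer_fintype ?_
  rintro _ ⟨w, hw, rfl⟩
  exact ⟨_, (characteristic_iff_le_comap.mp inferInstance (H.normalizerMonoidHom ⟨g, hg⟩)) hw, rfl⟩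

namespace Setting

variable (h : Setting N A R r)
include h

/-- In the minimal noncommutative case, `N` is generated by its components, which have trivial centre. -/
theorem components_of_minimal (hnc : ¬ ∀ a ∈ N, ∀ b ∈ N, a * b = b * a)
    (hmin : ∀ M : Subgroup Γ, M ≤ N → N ≤ normalizer (M : Set Γ) → A ≤ normalizer (M : Set Γ) →
      R ≤ normalizer (M : Set Γ) → M = ⊥ ∨ M = N) :
    layerSet N = N ∧ ∀ L, IsCompIn N L → ∀ z ∈ L, (∀ a ∈ L, a * z = z * a) → z = 1 := by
  have hchar : ∀ (C : Subgroup ↥N) [C.Characteristic], C = ⊥ ∨ C = ⊤ := fun C _ => by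
    rcases hmin (C.map N.subtype) (map_subtype_le C) (fun g hg => image_normalized N C (le_normalizer hg))
      (fun g hg => image_normalized N C (h.nA hg)) (fun g hg => image_normalized N C (h.nR hg)) with e | e
    · exact Or.inl ((map_eq_bot_iff_of_injective _ N.subtype_injective).mp e)
    · refine Or.inr (map_injective N.subtype_injective ?_)
      rw [e, ← MonoidHom.range_eq_map, range_subtype]
  have hZ : center ↥N = ⊥ := (hchar (center ↥N)).resolve_right fun e => hnc fun a ha b hb =>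
    congrArg Subtype.val (mem_center_iff.mp (e.ge (mem_top (⟨b, hb⟩ : ↥N))) ⟨a, ha⟩)
  have hnt : Nontrivial ↥N := by
    by_contra hn
    rw [not_nontrivial_iff_subsingleton] at hn
    exact hnc fun a ha b hb => congrArg Subtype.val (Subsingleton.elim ((⟨a, ha⟩ : ↥N) * ⟨b, hb⟩) (⟨b, hb⟩ * ⟨a, ha⟩))
  have hF : Cfsg.fittingSubgroup ↥N = ⊥ := (hchar (Cfsg.fittingSubgroup ↥N)).resolve_right fun e => by
    haveI : Group.IsNilpotent (⊤ : Subgroup ↥N) := e ▸ fittingSubgroup_isNilpotent
    haveI : Group.IsNilpotent ↥N := Group.nilpotent_of_mulEquiv topEquiv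
    exact Group.IsNilpotent.center_ne_bot ↥N hZ
  have hL : Cfsg.layer ↥N = ⊤ := (hchar (Cfsg.layer ↥N)).resolve_left fun e => by
    have h1 := centralizer_fitting_le_of_layer_eq_bot e
    rw [hF, le_bot_iff] at h1
    have h3 : (centralizer ((⊥ : Subgroup ↥N) : Set ↥N)) = ⊤ := eq_top_iff.mpr fun x _ => mem_centralizer_iff.mpr fun y hy => by
      rw [SetLike.mem_coe, mem_bot] at hy; rw [hy, one_mul, mul_one]
    rw [h3] at h1
    exact top_ne_bot h1
  have hlay : layerSet N = N := by
    rw [layerSet_eq, hL, ← MonoidHom.range_eq_map, range_subtype]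
  refine ⟨hlay, fun L hLc z hz hcom => ?_⟩
  have hle : layerSet N ≤ centralizer ({z} : Set Γ) := sSup_le fun D hD a ha => by
    rw [mem_centralizer_singleton_iff]
    by_cases e : D = L
    · exact hcom a (e ▸ ha)
    · exact IsCompIn.commute hD hLc e a ha z hz
  rw [hlay] at hle
  have h2 : (⟨z, hLc.le hz⟩ : ↥N) ∈ center ↥N := mem_center_iff.mpr fun y =>
    Subtype.ext (mem_centralizer_singleton_iff.mp (hle y.2))
  rw [hZ, mem_bot] at h2
  exact congrArg Subtype.val h2

/-- The components are permuted regularly by `R`; `A` centralises them all. -/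
theorem of_product (hmin : ∀ M : Subgroup Γ, M ≤ N → N ≤ normalizer (M : Set Γ) → A ≤ normalizer (M : Set Γ) →
      R ≤ normalizer (M : Set Γ) → M = ⊥ ∨ M = N)
    (hnc : ¬ ∀ a ∈ N, ∀ b ∈ N, a * b = b * a) (hns : ¬ IsCompIn N N) : A ≤ centralizer (N : Set Γ) := by
  classical
  obtain ⟨hlay, hcen⟩ := h.components_of_minimal hnc hmin
  suffices key : ∀ L, IsCompIn N L → A ≤ centralizer (L : Set Γ) by
    rw [le_centralizer_iff]
    calc N = layerSet N := hlay.symm
      _ ≤ centralizer (A : Set Γ) := sSup_le fun L hL => le_centralizer_iff.mp (key L hL)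
  intro L hL
  obtain ⟨b, hb, hbo, hC⟩ := exists_gen h.prime h.card
  have hbR : b ∈ R := hb ▸ mem_zpowers b
  have hL1 : L ≠ ⊥ := fun e => hL.not_comm (by rw [e]; intro a ha c hc; rw [mem_bot] at ha hc; rw [ha, hc])
  have hmoved : ∀ D, IsCompIn N D → ¬ R ≤ normalizer (D : Set Γ) := by
    intro D hD hRD
    obtain ⟨⟨c, hc⟩, hc1⟩ : ∃ c : ↥(D ⊓ centralizer (R : Set Γ)), c ≠ 1 := by
      haveI := (nontrivial_iff_ne_bot _).mpr
        (inf_centralizer_ne_bot h.prime h.card hRD (IsQuasisimple.not_isSolvable hD.qs))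
      exact exists_ne 1
    have hcA : ∀ a ∈ A, a * c * a⁻¹ = c := fun a ha =>
      mul_inv_eq_iff_eq_mul.mpr (mem_centralizer_iff.mp (h.fix ha) c ⟨hD.le hc.1, hc.2⟩).symm
    have hAD : A ≤ normalizer (D : Set Γ) := by
      intro a ha
      have hD' := hD.map_conj (h.nA ha)
      by_cases e : D.map (MulAut.conj a).toMonoidHom = D
      · refine mem_normalizer_fintype fun x hx => ?_
        have h1 : a * x * a⁻¹ ∈ D.map (MulAut.conj a).toMonoidHom := ⟨x, hx, rfl⟩
        rwa [e] at h1
      · refine absurd (Subtype.ext (hcen D hD c hc.1 fun x hx => ?_)) hc1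
        exact IsCompIn.commute hD hD' (Ne.symm e) x hx c ⟨c, hc.1, hcA a ha⟩
    have hND : N ≤ normalizer (D : Set Γ) := by
      calc N = layerSet N := hlay.symm
        _ ≤ _ := sSup_le fun D' hD' => IsCompIn.normalized hD hD'
    rcases hmin D hD.le hND hAD hRD with e | e
    · exact hD.not_comm (by rw [e]; intro a ha c hc; rw [mem_bot] at ha hc; rw [ha, hc])
    · exact hns (e ▸ hD)
  -- the orbit of `L`
  obtain ⟨X, hX⟩ : ∃ X, X = A ⊔ R := ⟨_, rfl⟩
  letI : MulAction ↥X (Subgroup Γ) :=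
    MulAction.compHom (Subgroup Γ) ((MulAut.conj : Γ →* MulAut Γ).comp X.subtype)
  have hsmul : ∀ (g : ↥X) (D : Subgroup Γ), g • D = MulAut.conj (g : Γ) • D := fun g D => rfl
  have hXN : X ≤ normalizer (N : Set Γ) := hX ▸ sup_le h.nA h.nR
  have hAX : A ≤ X := hX ▸ le_sup_left
  have hbX : b ∈ X := hX ▸ mem_sup_right hbR
  let Li : ℕ → Subgroup Γ := fun i => MulAut.conj (b ^ i) • L
  have hLi : ∀ i, IsCompIn N (Li i) := fun i => by
    show IsCompIn N (MulAut.conj (b ^ i) • L)
    rw [← map_conj_eq_smul]; exact hL.map_conj (h.nR (pow_mem hbR i))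
  have hbr : b ^ r = 1 := hbo ▸ pow_orderOf_eq_one b
  have hinj : ∀ i, 0 < i → i < r → Li i ≠ L := by
    intro i hi hir e
    refine hmoved L hL ?_
    have hmem : b ^ i ∈ normalizer (L : Set Γ) := mem_normalizer_iff_smul.mpr e
    have hgen : zpowers (b ^ i) = R := by
      refine eq_of_le_of_card_ge (zpowers_le.mpr (pow_mem hbR i)) ?_
      rw [h.card, Nat.card_zpowers, orderOf_pow' b hi.ne', hbo,
        (h.prime.coprime_iff_not_dvd.mpr (fun hd => absurd (Nat.le_of_dvd hi hd) (not_le.mpr hir))).gcd_eq_one, Nat.div_one]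
    rw [← hgen]; exact zpowers_le.mpr hmem
  have hd : ∀ x ∈ L, ∀ a ∈ A,
      a * ((List.range r).map fun i => b ^ i * x * (b ^ i)⁻¹).prod * a⁻¹ =
        ((List.range r).map fun i => b ^ i * x * (b ^ i)⁻¹).prod := by
    intro x hx a ha
    have hfixd := conj_prod_range h.prime.pos hbr (x := x) (fun i hi hir =>
      IsCompIn.commute hL (hLi i) (hinj i hi hir).symm x hx _ (smul_mem_pointwise_smul x (MulAut.conj (b ^ i)) L hx))
    have hdN : ((List.range r).map fun i => b ^ i * x * (b ^ i)⁻¹).prod ∈ N := list_prod_mem fun z hz => by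
      obtain ⟨i, -, rfl⟩ := List.mem_map.mp hz
      exact (hLi i).le (smul_mem_pointwise_smul x (MulAut.conj (b ^ i)) L hx)
    refine mul_inv_eq_iff_eq_mul.mpr (mem_centralizer_iff.mp (h.fix ha) _ ⟨hdN, ?_⟩).symm
    show _ ∈ centralizer (R : Set Γ)
    rw [hC, mem_centralizer_singleton_iff]
    exact (mul_inv_eq_iff_eq_mul.mp hfixd).symm
  obtain ⟨k, rfl⟩ : ∃ k, r = k + 1 := ⟨r - 1, by have := h.prime.pos; omega⟩
  have hsplit : ∀ x, ((List.range (k + 1)).map fun i => b ^ i * x * (b ^ i)⁻¹).prod =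
      x * ((List.range k).map fun i => b ^ (i + 1) * x * (b ^ (i + 1))⁻¹).prod := by
    intro x
    rw [List.range_succ_eq_map, List.map_cons, List.prod_cons, List.map_map]
    simp [Function.comp_def]
  have hP : ∀ x ∈ L, ∀ y ∈ L, Commute y ((List.range k).map fun i => b ^ (i + 1) * x * (b ^ (i + 1))⁻¹).prod := by
    intro x hx y hy
    refine Commute.list_prod_right _ _ fun z hz => ?_
    obtain ⟨i, hi, rfl⟩ := List.mem_map.mp hz
    exact IsCompIn.commute hL (hLi (i + 1))
      (hinj (i + 1) (Nat.succ_pos i) (Nat.succ_lt_succ (List.mem_range.mp hi))).symm y hy _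
      (smul_mem_pointwise_smul x (MulAut.conj (b ^ (i + 1))) L hx)
  have horb : ∀ a ∈ A, ∃ i < k + 1, MulAut.conj a • L = Li i := by
    intro a ha
    by_contra hno
    rw [not_exists] at hno
    refine hL.not_comm fun y hy x hx => ?_
    have hM : IsCompIn N (MulAut.conj a • L) := by rw [← map_conj_eq_smul]; exact hL.map_conj (h.nA ha)
    have h1 : Commute (a * y * a⁻¹) ((List.range (k + 1)).map fun i => b ^ i * x * (b ^ i)⁻¹).prod := by
      refine Commute.list_prod_right _ _ fun z hz => ?_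
      obtain ⟨i, hi, rfl⟩ := List.mem_map.mp hz
      exact IsCompIn.commute hM (hLi i) (fun e => hno i ⟨List.mem_range.mp hi, e⟩) _
        (smul_mem_pointwise_smul y (MulAut.conj a) L hy) _ (smul_mem_pointwise_smul x (MulAut.conj (b ^ i)) L hx)
    have h2 : Commute y ((List.range (k + 1)).map fun i => b ^ i * x * (b ^ i)⁻¹).prod := by
      rw [← hd x hx a ha] at h1
      have := h1.map (MulAut.conj a⁻¹)
      simpa [mul_assoc] using this
    rw [hsplit] at h2
    have h3 := (h2.mul_right (hP x hx y hy).inv_right)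
    simpa [mul_assoc] using h3.eq
  have hAfix : ∀ a ∈ A, MulAut.conj a • L = L := by
    let Ω := MulAction.orbit ↥X L
    have hAn : (A.subgroupOf X).Normal :=
      normal_subgroupOf_of_le_normalizer (hX ▸ sup_le le_normalizer h.nRA)
    have hB := MulAction.IsBlock.orbit_of_normal (G := ↥X) (X := ↥Ω) (N := A.subgroupOf X) ⟨L, mem_orbit_self L⟩
    have hdiv := hB.ncard_dvd_card (MulAction.nonempty_orbit _)
    have hΩ : Nat.card ↥Ω = k + 1 := by
      let f : Fin (k + 1) → ↥Ω := fun i => ⟨Li i, ⟨⟨b ^ (i : ℕ), pow_mem hbX i⟩, rfl⟩⟩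
      have hf : Function.Bijective f := by
        refine ⟨fun i j hij => ?_, ?_⟩
        · have e : MulAut.conj (b ^ (i : ℕ)) • L = MulAut.conj (b ^ (j : ℕ)) • L := congrArg Subtype.val hij
          by_contra hne
          rcases Nat.lt_or_gt_of_ne (fun e' => hne (Fin.ext e')) with hlt | hlt
          · refine hinj (j - i : ℕ) (by omega) (by omega) ?_
            show MulAut.conj (b ^ ((j : ℕ) - i)) • L = L
            apply MulAction.injective (MulAut.conj (b ^ (i : ℕ)))
            beta_reduce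
            rw [conj_smul_conj_smul, ← pow_add, Nat.add_sub_cancel' hlt.le, ← e]
          · refine hinj (i - j : ℕ) (by omega) (by omega) ?_
            show MulAut.conj (b ^ ((i : ℕ) - j)) • L = L
            apply MulAction.injective (MulAut.conj (b ^ (j : ℕ)))
            beta_reduce
            rw [conj_smul_conj_smul, ← pow_add, Nat.add_sub_cancel' hlt.le, e]
        · rintro ⟨D, g, rfl⟩
          obtain ⟨a, ha, c, hc, hg⟩ : ∃ a ∈ A, ∃ c ∈ R, (g : Γ) = c * a := by
            have hg : (g : Γ) ∈ ((R ⊔ A : Subgroup Γ) : Set Γ) := by rw [sup_comm, ← hX]; exact g.2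
            rw [coe_mul_of_left_le_normalizer_right R A h.nRA] at hg
            obtain ⟨c, hc, a, ha, e⟩ := hg
            exact ⟨a, ha, c, hc, e.symm⟩
          obtain ⟨i, -, hi⟩ := horb a ha
          obtain ⟨j, hj⟩ : ∃ j : ℕ, b ^ j = c := (isOfFinOrder_of_finite b).mem_powers_iff_mem_zpowers.mpr (hb ▸ hc)
          refine ⟨⟨(j + i) % (k + 1), Nat.mod_lt _ (Nat.succ_pos k)⟩, Subtype.ext ?_⟩
          show MulAut.conj (b ^ ((j + i) % (k + 1))) • L = MulAut.conj (g : Γ) • L
          rw [← hbo, pow_mod_orderOf, pow_add, ← conj_smul_conj_smul, hg, ← conj_smul_conj_smul, hi, hj]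
      rw [← Nat.card_eq_of_bijective f hf, Nat.card_fin]
    rw [hΩ] at hdiv
    rcases h.prime.eq_one_or_self_of_dvd _ hdiv with h1 | h1
    · intro a ha
      obtain ⟨w, hw⟩ := Set.ncard_eq_one.mp h1
      have hm : (⟨a, hAX ha⟩ : ↥X) ∈ A.subgroupOf X := ha
      have e1 : (⟨_, mem_orbit L (⟨a, hAX ha⟩ : ↥X)⟩ : ↥Ω) = w :=
        Set.mem_singleton_iff.mp (hw ▸ ⟨⟨_, hm⟩, rfl⟩)
      have e2 : (⟨L, mem_orbit_self L⟩ : ↥Ω) = w := Set.mem_singleton_iff.mp (hw ▸ mem_orbit_self _)
      exact congrArg Subtype.val (e1.trans e2.symm)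
    · exfalso
      refine h.copA (?_ : (k + 1) ∣ Nat.card A)
      rw [← h1, ← Nat.card_congr (subgroupOfEquivOfLe hAX).toEquiv, ← Nat.card_coe_set_eq]
      rw [Nat.card_congr (MulAction.orbitEquivQuotientStabilizer (A.subgroupOf X) _)]
      exact Subgroup.card_quotient_dvd_card _
  -- `A` centralises `L`
  intro a ha
  refine mem_centralizer_iff.mpr fun x hx => ?_
  have hnorm : a ∈ normalizer (L : Set Γ) := mem_normalizer_iff_smul.mpr (hAfix a ha)
  have hy : a * x * a⁻¹ ∈ L := (mem_normalizer_iff.mp hnorm x).mp hx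
  have e := hd x hx a ha
  rw [hsplit] at e
  obtain ⟨P, hPdef⟩ : ∃ P, P = ((List.range k).map fun i => b ^ (i + 1) * x * (b ^ (i + 1))⁻¹).prod := ⟨_, rfl⟩
  rw [← hPdef] at e
  have hone : x⁻¹ * (a * x * a⁻¹) = 1 := by
    refine hcen L hL _ (L.mul_mem (L.inv_mem hx) hy) fun y hyL => ?_
    have hy' : a⁻¹ * y * a ∈ L := by
      have := (mem_normalizer_iff.mp ((normalizer (L : Set Γ)).inv_mem hnorm) y).mp hyL
      simpa using this
    have c1 : Commute y P := hPdef ▸ hP x hx y hyL
    have c2 : Commute y (a * P * a⁻¹) := by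
      have := (hPdef ▸ hP x hx _ hy' : Commute (a⁻¹ * y * a) P).map (MulAut.conj a)
      simpa [mul_assoc] using this
    have e3 : x⁻¹ * (a * x * a⁻¹) = P * (a * P * a⁻¹)⁻¹ := by
      have e4 : a * x * a⁻¹ = x * P * (a * P * a⁻¹)⁻¹ := by rw [← e]; group
      rw [e4]; group
    rw [e3]
    exact (c1.mul_right c2.inv_right).eq
  rw [inv_mul_eq_one] at hone
  exact eq_mul_inv_iff_mul_eq.mp hone

end Setting

end Cfsg.Agent.Grp.FlavellCoprime
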