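import Mathlib
import Cfsg.Agent.Lib.Grp.FlavellCoprime.Product

/-!
The minimal case of a simple group, and the main theorem.
-/

set_option autoImplicit false

namespace Cfsg.Agent.Grp.FlavellCoprime

open Subgroup
open scoped commutatorElement Pointwise

universe u

variable {Γ : Type u} [Group Γ] [Finite Γ] {N A R : Subgroup Γ} {r : ℕ}

/-- A proper subgroup of a 2-group grows in its normaliser. -/
theorem exists_normalizer_gt {U Q : Subgroup Γ} (hQ : IsPGroup 2 Q) (hUQ : U ≤ Q) (hne : U ≠ Q) :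
    ∃ x ∈ Q, x ∈ normalizer (U : Set Γ) ∧ x ∉ U := by
  haveI : Fact (Nat.Prime 2) := ⟨Nat.prime_two⟩
  have hnc := @Group.normalizerCondition_of_isNilpotent ↥Q _ hQ.isNilpotent
  have h1 := hnc (U.subgroupOf Q) (lt_top_iff_ne_top.mpr fun e => hne (le_antisymm hUQ (subgroupOf_eq_top.mp e)))
  obtain ⟨x, hx, hxU⟩ := Set.exists_of_ssubset h1
  refine ⟨x, x.2, mem_normalizer_fintype fun y hy => ?_, hxU⟩
  exact (mem_normalizer_iff.mp hx ⟨y, hUQ hy⟩).mp hy

/-- A subgroup normalising a group and a subgroup of it also normalises the relative normaliser. -/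
theorem normalizes_inf_normalizer {K U B : Subgroup Γ} (hK : B ≤ normalizer (K : Set Γ))
    (hU : B ≤ normalizer (U : Set Γ)) :
    B ≤ normalizer ((K ⊓ normalizer (U : Set Γ) : Subgroup Γ) : Set Γ) := fun b hb =>
  mem_normalizer_fintype fun _ hx => ⟨(mem_normalizer_iff.mp (hK hb) _).mp hx.1,
    (normalizer (U : Set Γ)).mul_mem ((normalizer (U : Set Γ)).mul_mem (hU hb) hx.2)
      ((normalizer (U : Set Γ)).inv_mem (hU hb))⟩

/-- The centraliser of a normalised subgroup is normalised. -/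
theorem normalizes_centralizer {K B : Subgroup Γ} (hK : B ≤ normalizer (K : Set Γ)) :
    B ≤ normalizer ((centralizer (K : Set Γ) : Subgroup Γ) : Set Γ) := fun b hb =>
  mem_normalizer_fintype fun c hc => mem_centralizer_iff.mpr fun x hx => by
    have h1 : b⁻¹ * x * b ∈ K := by
      simpa using (mem_normalizer_iff.mp ((normalizer (K : Set Γ)).inv_mem (hK hb)) x).mp hx
    calc x * (b * c * b⁻¹) = b * ((b⁻¹ * x * b) * c) * b⁻¹ := by group
      _ = b * (c * (b⁻¹ * x * b)) * b⁻¹ := by rw [mem_centralizer_iff.mp hc _ h1]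
      _ = b * c * b⁻¹ * x := by group

namespace Setting

variable (h : Setting N A R r)
include h

/-- The simple case. -/
theorem of_simple (hIH : SmallerCases.{u} (Nat.card N))
    (hsimple : ∀ M : Subgroup Γ, M ≤ N → N ≤ normalizer (M : Set Γ) → M = ⊥ ∨ M = N)
    (hns : ¬ Group.IsSolvable N) : A ≤ centralizer (N : Set Γ) := by
  classical
  haveI : Fact (Nat.Prime 2) := ⟨Nat.prime_two⟩
  obtain ⟨T, hT⟩ : ∃ T, T = N ⊓ centralizer (A : Set Γ) := ⟨_, rfl⟩
  have hTN : T ≤ N := hT ▸ inf_le_left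
  have hTA : A ≤ centralizer (T : Set Γ) := le_centralizer_iff.mpr (hT ▸ inf_le_right)
  by_cases hTeq : T = N
  · rw [hTeq] at hTA; exact hTA
  have hCT : N ⊓ centralizer (R : Set Γ) ≤ T := hT ▸ le_inf inf_le_left (le_centralizer_iff.mp h.fix)
  have hRT : R ≤ normalizer (T : Set Γ) := by
    intro x hx
    refine mem_normalizer_fintype fun y hy => ?_
    have hy' : y ∈ N ⊓ centralizer (A : Set Γ) := hT ▸ hy
    rw [hT]
    exact ⟨(mem_normalizer_iff.mp (h.nR hx) y).mp hy'.1,
      (mem_normalizer_iff.mp (normalizes_centralizer h.nRA hx) y).mp hy'.2⟩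
  have hN1 : N ≠ ⊥ := fun e => hns (by rw [e]; infer_instance)
  have hsub : ∀ U : Subgroup Γ, U ≤ T → U ≠ ⊥ → R ≤ normalizer (U : Set Γ) → N ⊓ normalizer (U : Set Γ) ≤ T := by
    intro U hUT hU1 hRU
    have hAU : A ≤ normalizer (U : Set Γ) :=
      (hTA.trans (centralizer_le hUT)).trans (centralizer_le_normalizer _)
    have hlt : Nat.card ↥(N ⊓ normalizer (U : Set Γ)) < Nat.card N := by
      refine lt_of_le_of_ne (card_le_of_le inf_le_left) fun e => hTeq ?_
      have h1 : N ≤ normalizer (U : Set Γ) := (eq_of_le_of_card_ge inf_le_left e.ge).ge.trans inf_le_right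
      exact le_antisymm hTN (((hsimple U (hUT.trans hTN) h1).resolve_left hU1).ge.trans hUT)
    have := hIH Γ _ A R r hlt (h.restrict inf_le_left (normalizes_inf_normalizer h.nA hAU)
      (normalizes_inf_normalizer h.nR hRU))
    exact hT ▸ le_inf inf_le_left (le_centralizer_iff.mp this)
  have hcN := h.cop h.copN
  have hcT : (Nat.card R).Coprime (Nat.card T) := hcN.coprime_dvd_right (card_dvd_of_le hTN)
  have heven : 2 ∣ Nat.card N := by
    by_contra hodd
    exact hns (Cfsg.Agent.S0205.result (Nat.not_even_iff_odd.mp fun he => hodd he.two_dvd))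
  have hO : ∀ M : Subgroup ↥N, M.Normal → Odd (Nat.card M) → M = ⊥ := by
    intro M hM hodd
    have hn : N ≤ normalizer ((M.map N.subtype : Subgroup Γ) : Set Γ) := fun g hg =>
      mem_normalizer_fintype fun y hy => by
        obtain ⟨w, hw, rfl⟩ := hy
        exact ⟨⟨g, hg⟩ * w * ⟨g, hg⟩⁻¹, hM.conj_mem w hw _, rfl⟩
    rcases hsimple (M.map N.subtype) (map_subtype_le M) hn with e | e
    · exact (map_eq_bot_iff_of_injective _ N.subtype_injective).mp e
    · exfalso
      rw [← card_map_of_injective (K := M) N.subtype_injective, e] at hodd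
      exact (Nat.not_even_iff_odd.mpr hodd) (even_iff_two_dvd.mpr heven)
  by_cases h2 : 2 ∣ Nat.card T
  · obtain ⟨U, hU, hRU⟩ := exists_invariant_sylow R T hRT hcT (Or.inl h.solvR) 2
    have hU1 : U ≠ ⊥ := fun e => by
      have h3 := hU.2.2
      rw [e, relIndex_bot_left] at h3
      exact h3 h2
    obtain ⟨Q, hQ, hRQ, hUQ⟩ := exists_invariant_sylow_ge R N h.nR hcN (Or.inl h.solvR)
      (hU.1.trans hTN) hU.2.1 hRU
    have hUeq : U = Q := by
      by_contra hne
      obtain ⟨x, hxQ, hxn, hxU⟩ := exists_normalizer_gt hQ.2.1 hUQ hne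
      have hxT : x ∈ T := hsub U hU.1 hU1 hRU ⟨hQ.1 hxQ, hxn⟩
      have h4 : U = U ⊔ zpowers x := hU.eq_of_le le_sup_left (sup_le hU.1 (zpowers_le.mpr hxT))
        (hQ.2.1.to_le (sup_le hUQ (zpowers_le.mpr hxQ)))
      exact hxU (h4 ▸ mem_sup_right (mem_zpowers x))
    exact le_centralizer_of_sylow hO h.nA h.perf (hUeq ▸ hQ) (hTA.trans (centralizer_le hU.1))
  -- the centralised subgroup has odd order
  obtain ⟨Q, hQ, hRQ⟩ := exists_invariant_sylow R N h.nR hcN (Or.inl h.solvR) 2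
  have hQfix : Q ⊓ centralizer (R : Set Γ) = ⊥ := by
    have hcQT : (Nat.card Q).Coprime (Nat.card T) := by
      rw [hQ.card]
      exact (Nat.prime_two.coprime_iff_not_dvd.mpr h2).pow_left _
    refine le_bot_iff.mp (le_trans ?_ (inf_eq_bot_of_coprime hcQT).le)
    exact le_inf inf_le_left ((le_inf (inf_le_left.trans hQ.1) inf_le_right).trans hCT)
  obtain ⟨W, hW⟩ : ∃ W, W = N ⊔ A := ⟨_, rfl⟩
  have hWN : W ≤ normalizer (N : Set Γ) := hW ▸ sup_le le_normalizer h.nA
  have hRW : R ≤ normalizer (W : Set Γ) := by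
    intro x hx
    rw [mem_normalizer_iff_smul, hW, smul_sup, mem_normalizer_iff_smul.mp (h.nR hx),
      mem_normalizer_iff_smul.mp (h.nRA hx)]
  have hWcop : ¬ r ∣ Nat.card W := by
    intro hd
    have e := card_sup_mul_card_inf h.nA
    rw [sup_comm, ← hW] at e
    rcases h.prime.dvd_mul.mp (hd.trans ⟨_, e.symm⟩) with h5 | h5
    · exact h.copA h5
    · exact h.copN h5
  obtain ⟨N0, hN0⟩ : ∃ N0, N0 = W ⊓ normalizer (Q : Set Γ) := ⟨_, rfl⟩
  have hfrat : A ≤ N ⊔ N0 := by
    intro a ha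
    have h5 : IsSylowIn 2 (MulAut.conj a • Q) N := hQ.smul (mem_normalizer_iff_smul.mp (h.nA ha))
    obtain ⟨n, hn, hne⟩ := IsSylowIn.conj hQ h5
    have h6 : n⁻¹ * a ∈ N0 := by
      rw [hN0]
      refine ⟨W.mul_mem (W.inv_mem (hW ▸ mem_sup_left hn)) (hW ▸ mem_sup_right ha), mem_normalizer_iff_smul.mpr ?_⟩
      rw [← conj_smul_conj_smul, ← hne, conj_smul_conj_smul, inv_mul_cancel, map_one, one_smul]
    have := mul_mem_sup (S := N) (T := N0) hn h6
    simpa using this
  obtain ⟨P, hPmin⟩ := (Set.toFinite {P : Subgroup Γ | R ≤ normalizer (P : Set Γ) ∧ P ≤ N0 ∧ A ≤ N ⊔ P}).exists_minimal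
    ⟨N0, ⟨hN0 ▸ normalizes_inf_normalizer hRW hRQ, le_rfl, hfrat⟩⟩
  obtain ⟨hRP, hPN0, hAP⟩ := hPmin.1
  have hPW : P ≤ W := hPN0.trans (hN0 ▸ inf_le_left)
  have hPN : P ≤ normalizer (N : Set Γ) := hPW.trans hWN
  have hPR : ⁅P, R⁆ = P := by
    have hle : ⁅P, R⁆ ≤ P := commutator_le_left_of_le_normalizer hRP
    refine le_antisymm hle (hPmin.2 ⟨right_le_normalizer_commutator R P, hle.trans hPN0, ?_⟩ hle)
    calc A = ⁅A, R⁆ := h.comm.symm
      _ ≤ ⁅N ⊔ P, N ⊔ R⁆ := commutator_mono hAP le_sup_right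
      _ ≤ N ⊔ ⁅P, R⁆ := commutator_sup_le hPN h.nR
  have hPP : ⁅P, P⁆ = P := by
    have hle : ⁅P, P⁆ ≤ P := commutator_le_self P
    have hnorm : R ≤ normalizer ((⁅P, P⁆ : Subgroup Γ) : Set Γ) := fun x hx => by
      rw [mem_normalizer_iff_smul, ← map_conj_eq_smul, Subgroup.map_commutator, map_conj_eq_smul,
        mem_normalizer_iff_smul.mp (hRP hx)]
    refine le_antisymm hle (hPmin.2 ⟨hnorm, hle.trans hPN0, ?_⟩ hle)
    calc A = ⁅A, A⁆ := h.perf.symm
      _ ≤ ⁅N ⊔ P, N ⊔ P⁆ := commutator_mono hAP hAP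
      _ ≤ N ⊔ ⁅P, P⁆ := commutator_sup_le hPN hPN
  have hsetQ : Setting Q P R r := by
    refine ⟨h.prime, h.card, hPN0.trans (hN0 ▸ inf_le_right), hRQ, hRP, hPP, hPR,
      fun hd => hWcop (hd.trans (card_dvd_of_le hPW)), fun hd => h.copN (hd.trans (card_dvd_of_le hQ.1)), ?_⟩
    rw [hQfix]
    intro a _
    exact mem_centralizer_iff.mpr fun x hx => by
      rw [SetLike.mem_coe, mem_bot] at hx
      rw [hx, one_mul, mul_one]
  have hQN : Nat.card Q < Nat.card N := by
    refine lt_of_le_of_ne (card_le_of_le hQ.1) fun e => hns ?_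
    rw [← eq_of_le_of_card_ge hQ.1 e.ge]
    haveI := hQ.2.1.isNilpotent
    infer_instance
  have hPC : P ≤ centralizer (N : Set Γ) :=
    le_centralizer_of_sylow hO hPN hPP hQ (hIH Γ Q P R r hQN hsetQ)
  have hAC : A ≤ N ⊔ centralizer (N : Set Γ) := hAP.trans (sup_le_sup_left hPC N)
  obtain ⟨K, hK⟩ : ∃ K, K = N ⊓ (A ⊔ centralizer (N : Set Γ)) := ⟨_, rfl⟩
  have hKfix : K ≤ centralizer ((N ⊓ centralizer (R : Set Γ) : Subgroup Γ) : Set Γ) :=
    hK ▸ inf_le_right.trans (sup_le h.fix (centralizer_le inf_le_left))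
  have hRK : R ≤ normalizer (K : Set Γ) := by
    intro x hx
    rw [mem_normalizer_iff_smul, hK, Subgroup.smul_inf, smul_sup, mem_normalizer_iff_smul.mp (h.nR hx),
      mem_normalizer_iff_smul.mp (h.nRA hx), mem_normalizer_iff_smul.mp (normalizes_centralizer h.nR hx)]
  have hKs : Group.IsSolvable K := isSolvable_of_fixed_central h.prime h.card hRK
    (fun hd => h.copN (hd.trans (card_dvd_of_le (hK ▸ inf_le_left))))
    (hKfix.trans (centralizer_le (inf_le_inf_right _ (hK ▸ inf_le_left))))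
  have hKN : K ≤ normalizer (N : Set Γ) := hK ▸ inf_le_left.trans le_normalizer
  obtain ⟨ψ, hψ⟩ : ∃ ψ : ↥K →* MulAut ↥N, ψ = N.normalizerMonoidHom.comp (Subgroup.inclusion hKN) := ⟨_, rfl⟩
  haveI := hKs
  have hψs : Group.IsSolvable ψ.range := Group.isSolvable_of_surjective ψ.rangeRestrict_surjective
  refine le_centralizer_of_solvable_image h.nA h.perf ψ.range hψs fun a => ?_
  have ha : (a : Γ) ∈ ((N ⊔ centralizer (N : Set Γ) : Subgroup Γ) : Set Γ) := hAC a.2
  rw [coe_mul_of_right_le_normalizer_left N (centralizer (N : Set Γ)) (centralizer_le_normalizer _)] at ha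
  obtain ⟨n, hn, c, hc, hnc⟩ := ha
  have hnK : n ∈ K := by
    rw [hK]
    refine ⟨hn, ?_⟩
    have : n = a * c⁻¹ := eq_mul_inv_of_mul_eq hnc
    rw [this]
    exact mul_mem (mem_sup_left a.2) (mem_sup_right (inv_mem hc))
  refine ⟨⟨n, hnK⟩, ?_⟩
  rw [hψ]
  refine MulEquiv.ext fun x => Subtype.ext ?_
  show n * (x : Γ) * n⁻¹ = (a : Γ) * x * (a : Γ)⁻¹
  have hxc : c * (x : Γ) * c⁻¹ = x := mul_inv_eq_iff_eq_mul.mpr (mem_centralizer_iff.mp hc x x.2).symm
  rw [← hnc]
  conv_lhs => rw [← hxc]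
  group

/-- The induction step. -/
theorem centralizes_step (hS : ModuleStep.{u}) (hIH : SmallerCases.{u} (Nat.card N)) :
    A ≤ centralizer (N : Set Γ) := by
  by_cases hmin : ∀ M : Subgroup Γ, M ≤ N → N ≤ normalizer (M : Set Γ) → A ≤ normalizer (M : Set Γ) →
      R ≤ normalizer (M : Set Γ) → M = ⊥ ∨ M = N
  · by_cases hc : ∀ a ∈ N, ∀ b ∈ N, a * b = b * a
    · exact h.of_abelian hS hc hmin
    obtain ⟨-, hcen⟩ := h.components_of_minimal hc hmin
    by_cases hns : IsCompIn N N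
    · refine h.of_simple hIH (fun M hM hn => ?_) (IsQuasisimple.not_isSolvable hns.qs)
      haveI : (M.subgroupOf N).Normal := normal_subgroupOf_of_le_normalizer hn
      rcases IsQuasisimple.eq_top_or_le_center hns.qs (M.subgroupOf N) with e | e
      · exact Or.inr (le_antisymm hM (subgroupOf_eq_top.mp e))
      · refine Or.inl ((Subgroup.eq_bot_iff_forall _).mpr fun x hx => hcen N hns x (hM hx) fun a ha => ?_)
        exact congrArg Subtype.val (mem_center_iff.mp (e (show (⟨x, hM hx⟩ : ↥N) ∈ M.subgroupOf N from hx)) ⟨a, ha⟩)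
    · exact h.of_product hmin hc hns
  · simp only [not_forall] at hmin
    obtain ⟨M, hM, hN, hA, hR, hne⟩ := hmin
    exact h.of_invariant hIH hM hN hA hR (fun e => hne (Or.inl e)) fun e => hne (Or.inr e)

end Setting

/-- A perfect group `A = [A, R]` centralising the fixed points of `R` on `N` centralises `N`. -/
theorem setting_centralizes (hS : ModuleStep.{u}) : ∀ n : ℕ, SmallerCases.{u} n := by
  intro n
  induction n using Nat.strong_induction_on with
  | _ n ih =>
  intro Δ _ _ N A R r hlt h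
  exact h.centralizes_step hS (ih _ hlt)

theorem Setting.centralizes (h : Setting N A R r) (hS : ModuleStep.{u}) : A ≤ centralizer (N : Set Γ) :=
  h.centralizes_step hS (setting_centralizes hS _)

end Cfsg.Agent.Grp.FlavellCoprime
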