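import Mathlib
import Cfsg.Agent.Lib.Grp.FlavellCoprime.Simple

/-!
The layer of a subgroup `H = [H, R]` invariant under `R C_G(R)` lies in the layer of `G`.
-/

set_option autoImplicit false

namespace Cfsg.Agent.Grp.FlavellCoprime

open Subgroup
open scoped commutatorElement Pointwise

universe u

variable {Γ : Type u} [Group Γ] [Finite Γ]

/-- The generalized Fitting subgroup of `G`, in the ambient group. -/
abbrev gfitIn (G : Subgroup Γ) : Subgroup Γ := (Cfsg.generalizedFittingSubgroup ↥G).map G.subtype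

theorem gfitIn_normalized (G : Subgroup Γ) : normalizer (G : Set Γ) ≤ normalizer (gfitIn G : Set Γ) := by
  intro g hg
  rw [mem_normalizer_iff_smul, gfitIn, Cfsg.generalizedFittingSubgroup, Subgroup.map_sup, smul_sup,
    mem_normalizer_iff_smul.mp (image_normalized G (Cfsg.layer ↥G) hg),
    mem_normalizer_iff_smul.mp (image_normalized G (Cfsg.fittingSubgroup ↥G) hg)]

theorem centralizer_gfitIn_le (G : Subgroup Γ) : G ⊓ centralizer (gfitIn G : Set Γ) ≤ gfitIn G := by
  intro x hx
  have h1 : (⟨x, hx.1⟩ : ↥G) ∈ centralizer (Cfsg.generalizedFittingSubgroup ↥G : Set ↥G) :=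
    mem_centralizer_iff.mpr fun y hy => Subtype.ext (mem_centralizer_iff.mp hx.2 y ⟨y, hy, rfl⟩)
  exact ⟨_, centralizer_gfitting_le h1, rfl⟩

/-- A perfect subgroup of `F*(G)` lies in the layer. -/
theorem perfect_le_layerSet (G K : Subgroup Γ) (hp : ⁅K, K⁆ = K) (hK : K ≤ gfitIn G) : K ≤ layerSet G := by
  obtain ⟨E, hE⟩ : ∃ E, E = layerSet G := ⟨_, rfl⟩
  obtain ⟨F, hF⟩ : ∃ F, F = Cfsg.fittingSubgroup ↥G := ⟨_, rfl⟩
  have hFE : F.map G.subtype ≤ normalizer (E : Set Γ) := fun g hg =>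
    hE ▸ layerSet_normalized (le_normalizer (map_subtype_le _ hg))
  have key : ∀ i, K ≤ E ⊔ ((derivedSeries ↥F i).map F.subtype).map G.subtype := by
    intro i
    induction i with
    | zero =>
      rw [derivedSeries_zero, ← MonoidHom.range_eq_map, range_subtype, hE, layerSet_eq, hF, ← Subgroup.map_sup]
      exact hK
    | succ i ih =>
      have hn : ((derivedSeries ↥F i).map F.subtype).map G.subtype ≤ normalizer (E : Set Γ) :=
        (map_mono (map_subtype_le _)).trans hFE
      calc K = ⁅K, K⁆ := hp.symm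
        _ ≤ _ := commutator_mono ih ih
        _ ≤ _ := commutator_sup_le hn hn
        _ = _ := by rw [derivedSeries_succ, Subgroup.map_commutator, Subgroup.map_commutator]
  haveI : Group.IsNilpotent F := hF ▸ fittingSubgroup_isNilpotent
  obtain ⟨n, hn⟩ := (inferInstance : Group.IsSolvable ↥F).solvable
  have h1 := key n
  rw [hn, Subgroup.map_bot, Subgroup.map_bot, sup_bot_eq, hE] at h1
  exact h1

theorem IsCompIn.perfect' {H D : Subgroup Γ} (h : IsCompIn H D) : ⁅D, D⁆ = D :=
  Subgroup.isPerfect_iff.mp h.qs.1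

theorem IsCompIn.ne_bot {H D : Subgroup Γ} (h : IsCompIn H D) : D ≠ ⊥ := fun e =>
  h.not_comm (by rw [e]; intro a ha c hc; rw [mem_bot] at ha hc; rw [ha, hc])

/-- A component of `H` outside `F*(G)` centralises the fixed points of `R` in `F*(G)`. -/
theorem comp_le_centralizer_fixed {G H K R : Subgroup Γ} (hHG : H ≤ G) (hK : IsCompIn H K)
    (hC : G ⊓ centralizer (R : Set Γ) ≤ normalizer (H : Set Γ)) (hKN : ¬ K ≤ gfitIn G) :
    K ≤ centralizer ((gfitIn G ⊓ centralizer (R : Set Γ) : Subgroup Γ) : Set Γ) := by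
  refine le_centralizer_of_perfect (IsCompIn.perfect' hK) ?_
  obtain ⟨C, hCdef⟩ : ∃ C, C = gfitIn G ⊓ centralizer (R : Set Γ) := ⟨_, rfl⟩
  rw [← hCdef]
  have hCG : C ≤ G := hCdef ▸ inf_le_left.trans (map_subtype_le _)
  have hCH : C ≤ normalizer (H : Set Γ) := fun c hc => hC ⟨hCG hc, (hCdef.le hc).2⟩
  obtain ⟨M, hM⟩ : ∃ M, M = H ⊓ gfitIn G := ⟨_, rfl⟩
  have hle : ⁅C, K⁆ ≤ M := by
    rw [hM, le_inf_iff]
    constructor
    · refine (commutator_mono le_rfl hK.le).trans ?_
      rw [commutator_comm]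
      exact commutator_le_left_of_le_normalizer hCH
    · refine (commutator_mono (hCdef.le.trans inf_le_left) (hK.le.trans hHG)).trans ?_
      exact commutator_le_left_of_le_normalizer (le_normalizer.trans (gfitIn_normalized G))
  obtain ⟨E, hE, hKE⟩ := hK
  have hMn : (M.subgroupOf H).Normal := by
    refine normal_subgroupOf_of_le_normalizer ?_
    rw [hM]
    intro x hx
    exact mem_normalizer_fintype fun y hy => ⟨H.mul_mem (H.mul_mem hx hy.1) (H.inv_mem hx),
      (mem_normalizer_iff.mp (gfitIn_normalized G (le_normalizer (hHG hx))) y).mp hy.2⟩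
  rcases component_le_or_commute hE hMn.isSubnormal with e | e
  · refine absurd ?_ hKN
    rw [hKE]
    rintro _ ⟨y, hy, rfl⟩
    exact ((hM.le (mem_subgroupOf.mp (e hy))) : (y : Γ) ∈ H ⊓ gfitIn G).2
  · have h1 := congrArg (Subgroup.map H.subtype) e
    rw [Subgroup.map_commutator, map_subgroupOf_eq_of_le (hM ▸ inf_le_left), ← hKE, Subgroup.map_bot,
      commutator_comm] at h1
    exact le_bot_iff.mp ((commutator_mono hle le_rfl).trans h1.le)

/-- The layer of `H` lies in the layer of `G`. -/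
theorem layerSet_le (hS : ModuleStep.{u}) (G R H : Subgroup Γ) (r : ℕ) (hr : r.Prime) (hR : Nat.card R = r)
    (hcop : ¬ r ∣ Nat.card G) (hGR : R ≤ normalizer (G : Set Γ)) (hHG : H ≤ G)
    (hRH : R ≤ normalizer (H : Set Γ)) (hC : G ⊓ centralizer (R : Set Γ) ≤ normalizer (H : Set Γ))
    (hHR : ⁅H, R⁆ = H) : layerSet H ≤ layerSet G := by
  refine sSup_le fun K₀ hK₀ => perfect_le_layerSet G K₀ (IsCompIn.perfect' hK₀) ?_
  by_contra hK₀N
  obtain ⟨S, hSdef⟩ : ∃ S : Set (Subgroup Γ), S = {D | IsCompIn H D ∧ ¬ D ≤ gfitIn G} := ⟨_, rfl⟩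
  have hHN : H ≤ normalizer (gfitIn G : Set Γ) := hHG.trans (le_normalizer.trans (gfitIn_normalized G))
  have hRN : R ≤ normalizer (gfitIn G : Set Γ) := hGR.trans (gfitIn_normalized G)
  have hmove : ∀ g ∈ normalizer (H : Set Γ), g ∈ normalizer (gfitIn G : Set Γ) → ∀ D ∈ S, MulAut.conj g • D ∈ S := by
    intro g hg hgN D hD
    rw [hSdef] at hD ⊢
    refine ⟨?_, fun hle => hD.2 ?_⟩
    · rw [← map_conj_eq_smul]; exact hD.1.map_conj hg
    · rw [← mem_normalizer_iff_smul.mp hgN] at hle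
      exact pointwise_smul_le_pointwise_smul_iff.mp hle
  by_cases hall : ∀ D ∈ S, R ≤ centralizer (D : Set Γ)
  · obtain ⟨E1, hE1⟩ : ∃ E1, E1 = sSup S := ⟨_, rfl⟩
    have hRE : ⁅E1, R⁆ = ⊥ := by
      rw [commutator_comm, commutator_eq_bot_iff_le_centralizer, le_centralizer_iff, hE1]
      exact sSup_le fun D hD => le_centralizer_iff.mp (hall D hD)
    have hHE : H ≤ normalizer (E1 : Set Γ) := by
      have step : ∀ h ∈ H, MulAut.conj h • E1 ≤ E1 := by
        intro h hh
        rw [← map_conj_eq_smul, map_le_iff_le_comap, hE1]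
        refine sSup_le fun D hD => ?_
        rw [← map_le_iff_le_comap, map_conj_eq_smul]
        exact le_sSup (hmove h (le_normalizer hh) (hHN hh) D hD)
      intro h hh
      exact mem_normalizer_fintype fun x hx => step h hh (smul_mem_pointwise_smul x (MulAut.conj h) E1 hx)
    have h1 : ⁅⁅H, E1⁆, R⁆ = ⊥ := by
      refine le_bot_iff.mp ((commutator_mono ?_ le_rfl).trans hRE.le)
      rw [commutator_comm]; exact commutator_le_left_of_le_normalizer hHE
    have h2 : ⁅⁅E1, R⁆, H⁆ = ⊥ := by rw [hRE, commutator_bot_left]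
    have h3 : ⁅⁅R, H⁆, E1⁆ = ⊥ := commutator_commutator_eq_bot_of_rotate h1 h2
    rw [commutator_comm R H, hHR, commutator_eq_bot_iff_le_centralizer] at h3
    refine hK₀.not_comm fun a ha b hb => ?_
    have hK₀E : K₀ ≤ E1 := hE1 ▸ le_sSup (hSdef ▸ ⟨hK₀, hK₀N⟩)
    exact (mem_centralizer_iff.mp (h3 (hK₀.le hb)) a (hK₀E ha))
  · simp only [not_forall] at hall
    obtain ⟨K, hKS, hKR⟩ := hall
    obtain ⟨O, hO⟩ : ∃ O, O = sSup ((fun x => MulAut.conj x • K) '' (R : Set Γ)) := ⟨_, rfl⟩
    have hconjS : ∀ x ∈ R, MulAut.conj x • K ∈ S := fun x hx => hmove x (hRH hx) (hRN hx) K hKS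
    have hcomp : ∀ x ∈ R, IsCompIn H (MulAut.conj x • K) := fun x hx => (hSdef ▸ hconjS x hx : _ ∈ {D | IsCompIn H D ∧ ¬ D ≤ gfitIn G}).1
    have hleO : ∀ x ∈ R, MulAut.conj x • K ≤ O := fun x hx => hO ▸ le_sSup ⟨x, hx, rfl⟩
    have hKO : K ≤ O := by simpa using hleO 1 R.one_mem
    have hOH : O ≤ H := hO ▸ sSup_le (by rintro _ ⟨x, hx, rfl⟩; exact (hcomp x hx).le)
    have hOR : R ≤ normalizer (O : Set Γ) := by
      intro y hy
      refine mem_normalizer_fintype fun z hz => ?_
      have step : MulAut.conj y • O ≤ O := by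
        rw [← map_conj_eq_smul, map_le_iff_le_comap]
        conv_lhs => rw [hO]
        refine sSup_le ?_
        rintro _ ⟨x, hx, rfl⟩
        rw [← map_le_iff_le_comap, map_conj_eq_smul, conj_smul_conj_smul]
        exact hleO _ (R.mul_mem hy hx)
      exact step (smul_mem_pointwise_smul z (MulAut.conj y) O hz)
    have hperf : ⁅O, O⁆ = O := by
      refine le_antisymm (commutator_le_self O) ?_
      conv_lhs => rw [hO]
      refine sSup_le ?_
      rintro _ ⟨x, hx, rfl⟩
      exact (IsCompIn.perfect' (hcomp x hx)).symm.le.trans (commutator_mono (hleO x hx) (hleO x hx))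
    have hKc : IsCompIn H K := by simpa using hcomp 1 R.one_mem
    obtain ⟨P, hP⟩ : ∃ P, P = ⁅O, R⁆ := ⟨_, rfl⟩
    have hPO : P ≤ O := hP ▸ commutator_le_left_of_le_normalizer hOR
    have hKnorm : O ≤ normalizer (K : Set Γ) := hO ▸ sSup_le (by
      rintro _ ⟨x, hx, rfl⟩; exact IsCompIn.normalized hKc (hcomp x hx))
    have hPR : R ≤ normalizer (P : Set Γ) := hP ▸ right_le_normalizer_commutator R O
    have hKP : K ≤ P := by
      by_contra hne
      have hKPn : K ≤ normalizer (P : Set Γ) := hKO.trans (hP ▸ left_le_normalizer_commutator R O)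
      haveI : ((K ⊓ P).subgroupOf K).Normal := normal_subgroupOf_of_le_normalizer fun k hk =>
        mem_normalizer_fintype fun y hy => ⟨K.mul_mem (K.mul_mem hk hy.1) (K.inv_mem hk),
          (mem_normalizer_iff.mp (hKPn hk) y).mp hy.2⟩
      rcases IsQuasisimple.eq_top_or_le_center hKc.qs ((K ⊓ P).subgroupOf K) with e | e
      · exact hne ((subgroupOf_eq_top.mp e).trans inf_le_right)
      · have hcent : K ⊓ P ≤ centralizer (K : Set Γ) := fun z hz => mem_centralizer_iff.mpr fun k hk =>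
          congrArg Subtype.val (mem_center_iff.mp (e (show (⟨z, hz.1⟩ : ↥K) ∈ (K ⊓ P).subgroupOf K from hz)) ⟨k, hk⟩)
        have h1 : ⁅⁅P, K⁆, K⁆ = ⊥ := by
          refine le_bot_iff.mp ((commutator_mono (le_inf ?_ ?_) le_rfl).trans (commutator_eq_bot_iff_le_centralizer.mpr hcent).le)
          · rw [commutator_comm]; exact commutator_le_left_of_le_normalizer (hPO.trans hKnorm)
          · exact commutator_le_left_of_le_normalizer hKPn
        have h2 : K ≤ centralizer (P : Set Γ) := le_centralizer_of_perfect (IsCompIn.perfect' hKc) h1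
        have hKRP : ⁅K, R⁆ ≤ P := (commutator_mono hKO (le_refl R)).trans hP.ge
        have hPK : ⁅P, K⁆ = ⊥ := by
          rw [commutator_comm]; exact commutator_eq_bot_iff_le_centralizer.mpr h2
        have h3 : ⁅⁅K, R⁆, K⁆ = ⊥ := le_bot_iff.mp ((commutator_mono hKRP (le_refl K)).trans hPK.le)
        have h4 : ⁅⁅K, K⁆, R⁆ = ⊥ :=
          commutator_commutator_eq_bot_of_rotate h3 (by rw [commutator_comm R K]; exact h3)
        rw [IsCompIn.perfect' hKc, commutator_comm, commutator_eq_bot_iff_le_centralizer] at h4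
        exact hKR h4
    have hOP : ⁅O, R⁆ = O := by
      rw [← hP]
      refine le_antisymm hPO ?_
      conv_lhs => rw [hO]
      refine sSup_le ?_
      rintro _ ⟨x, hx, rfl⟩
      rw [← mem_normalizer_iff_smul.mp (hPR hx)]
      exact pointwise_smul_le_pointwise_smul_iff.mpr hKP
    have hset : Setting (gfitIn G) O R r := by
      refine ⟨hr, hR, hOH.trans hHN, hRN, hOR, hperf, hOP,
        fun hd => hcop (hd.trans (card_dvd_of_le (hOH.trans hHG))),
        fun hd => hcop (hd.trans (card_dvd_of_le (map_subtype_le _))), ?_⟩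
      rw [hO]
      refine sSup_le ?_
      rintro _ ⟨x, hx, rfl⟩
      exact comp_le_centralizer_fixed hHG (hcomp x hx) hC (hSdef ▸ hconjS x hx : _ ∈ {D | IsCompIn H D ∧ ¬ D ≤ gfitIn G}).2
    have hmain := hset.centralizes hS
    exact (hSdef ▸ hKS : K ∈ {D | IsCompIn H D ∧ ¬ D ≤ gfitIn G}).2
      (fun x hx => centralizer_gfitIn_le G ⟨hHG (hKc.le hx), hmain (hKO hx)⟩)

end Cfsg.Agent.Grp.FlavellCoprime
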