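import Mathlib
import Cfsg.Agent.Lib.Grp.FlavellCoprime.Layer

/-!
Quasisimple subgroups commuting with their distinct conjugates under `R C_G(R)`.
-/

set_option autoImplicit false

namespace Cfsg.Agent.Grp.FlavellCoprime

open Subgroup
open scoped commutatorElement Pointwise

universe u

variable {Γ : Type u} [Group Γ] [Finite Γ]

section General

omit [Finite Γ] in
theorem not_le_centralizer_self {K : Subgroup Γ} (hq : Cfsg.IsQuasisimple ↥K) : ¬ K ≤ centralizer (K : Set Γ) :=
  fun hle => IsQuasisimple.center_ne_top hq (top_le_iff.mp fun a _ => mem_center_iff.mpr fun b =>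
    Subtype.ext (mem_centralizer_iff.mp (hle a.2) b b.2))

omit [Finite Γ] in
/-- An element centralising a perfect group modulo its centre centralises it. -/
theorem centralizes_of_mod {K : Subgroup Γ} (hp : ⁅K, K⁆ = K) {w : Γ} (hw : w ∈ normalizer (K : Set Γ))
    (h : ∀ k ∈ K, ∀ y ∈ K, y * (w * k * w⁻¹ * k⁻¹) = (w * k * w⁻¹ * k⁻¹) * y) :
    w ∈ centralizer (K : Set Γ) := by
  have hp' : commutator ↥K = ⊤ :=
    map_injective K.subtype_injective (by rw [map_subtype_commutator, hp, ← MonoidHom.range_eq_map, range_subtype])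
  have h1 := fun k : ↥K => perfect_fixed_of_central hp' (K.normalizerMonoidHom ⟨w, hw⟩).toMonoidHom
    (fun d => mem_center_iff.mpr fun y => Subtype.ext (h d d.2 y y.2)) k
  refine mem_centralizer_iff.mpr fun k hk => ?_
  have h2 : w * k * w⁻¹ = k := congrArg Subtype.val (h1 ⟨k, hk⟩)
  exact (mul_inv_eq_iff_eq_mul.mp h2).symm

/-- The centraliser of a normalised subgroup meets a quasisimple group in its centre. -/
theorem inf_centralizer_central {K L : Subgroup Γ} (hq : Cfsg.IsQuasisimple ↥K) (hn : K ≤ normalizer (L : Set Γ))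
    (hne : ¬ K ≤ centralizer (L : Set Γ)) {z : Γ} (hz : z ∈ K) (hzL : z ∈ centralizer (L : Set Γ)) :
    ∀ y ∈ K, y * z = z * y := by
  haveI : ((centralizer (L : Set Γ)).subgroupOf K).Normal :=
    normal_subgroupOf_of_le_normalizer (normalizes_centralizer hn)
  rcases IsQuasisimple.eq_top_or_le_center hq ((centralizer (L : Set Γ)).subgroupOf K) with e | e
  · exact absurd (subgroupOf_eq_top.mp e) hne
  · exact fun y hy => congrArg Subtype.val
      (mem_center_iff.mp (e (show (⟨z, hz⟩ : ↥K) ∈ (centralizer (L : Set Γ)).subgroupOf K from hzL)) ⟨y, hy⟩)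

end General

/-- The components of `G` are normal in its layer. -/
theorem layer_le_normalizer {G L : Subgroup Γ} (hL : IsCompIn G L) : layerSet G ≤ normalizer (L : Set Γ) :=
  sSup_le fun _ hD => IsCompIn.normalized hL hD

/-- The layer decomposes over one component. -/
theorem layer_decomp {G L : Subgroup Γ} (hL : IsCompIn G L) {x : Γ} (hx : x ∈ layerSet G) :
    ∃ y ∈ L, y⁻¹ * x ∈ centralizer (L : Set Γ) := by
  have hle : layerSet G ≤ L ⊔ centralizer (L : Set Γ) := sSup_le fun D hD => by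
    by_cases e : D = L
    · rw [e]; exact le_sup_left
    · exact le_trans (fun a ha => mem_centralizer_iff.mpr fun b hb => IsCompIn.commute hL hD (Ne.symm e) b hb a ha) le_sup_right
  have h1 : x ∈ ((L ⊔ centralizer (L : Set Γ) : Subgroup Γ) : Set Γ) := hle hx
  rw [coe_mul_of_right_le_normalizer_left L (centralizer (L : Set Γ)) (centralizer_le_normalizer _)] at h1
  obtain ⟨y, hy, c, hc, rfl⟩ := h1
  exact ⟨y, hy, by simpa using hc⟩

/-- A diagonal element over a moved component. -/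
theorem exists_diag {G L R : Subgroup Γ} {r : ℕ} (hr : r.Prime) (hR : Nat.card R = r)
    (hGR : R ≤ normalizer (G : Set Γ)) (hL : IsCompIn G L) (hmoved : ¬ R ≤ normalizer (L : Set Γ))
    {x : Γ} (hx : x ∈ L) :
    ∃ c ∈ G ⊓ centralizer (R : Set Γ), x⁻¹ * c ∈ centralizer (L : Set Γ) ∧
      ∀ D, IsCompIn G D → (∀ g ∈ R, MulAut.conj g • L ≠ D) → c ∈ centralizer (D : Set Γ) := by
  obtain ⟨b, hb, hbo, hC⟩ := exists_gen hr hR
  have hbR : b ∈ R := hb ▸ mem_zpowers b
  have hbr : b ^ r = 1 := hbo ▸ pow_orderOf_eq_one b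
  obtain ⟨k, rfl⟩ : ∃ k, r = k + 1 := ⟨r - 1, by have := hr.pos; omega⟩
  have hLi : ∀ i : ℕ, IsCompIn G (MulAut.conj (b ^ i) • L) := fun i => by
    rw [← map_conj_eq_smul]; exact hL.map_conj (hGR (pow_mem hbR i))
  have hinj : ∀ i, 0 < i → i < k + 1 → MulAut.conj (b ^ i) • L ≠ L := by
    intro i hi hir e
    have hmem : b ^ i ∈ normalizer (L : Set Γ) := mem_normalizer_iff_smul.mpr e
    have hgen : zpowers (b ^ i) = R := by
      refine eq_of_le_of_card_ge (zpowers_le.mpr (pow_mem hbR i)) ?_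
      rw [hR, Nat.card_zpowers, orderOf_pow' b hi.ne', hbo,
        (hr.coprime_iff_not_dvd.mpr (fun hd => absurd (Nat.le_of_dvd hi hd) (not_le.mpr hir))).gcd_eq_one, Nat.div_one]
    exact hmoved (hgen ▸ zpowers_le.mpr hmem)
  have hmem : ∀ i : ℕ, b ^ i * x * (b ^ i)⁻¹ ∈ MulAut.conj (b ^ i) • L := fun i =>
    smul_mem_pointwise_smul x (MulAut.conj (b ^ i)) L hx
  refine ⟨((List.range (k + 1)).map fun i => b ^ i * x * (b ^ i)⁻¹).prod, ⟨?_, ?_⟩, ?_, ?_⟩
  · refine list_prod_mem fun z hz => ?_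
    obtain ⟨i, -, rfl⟩ := List.mem_map.mp hz
    exact (hLi i).le (hmem i)
  · show _ ∈ centralizer (R : Set Γ)
    rw [hC, mem_centralizer_singleton_iff]
    exact (mul_inv_eq_iff_eq_mul.mp (conj_prod_range hr.pos hbr (x := x) fun i hi hir =>
      IsCompIn.commute hL (hLi i) (hinj i hi hir).symm x hx _ (hmem i))).symm
  · rw [List.range_succ_eq_map, List.map_cons, List.prod_cons, List.map_map]
    simp only [pow_zero, one_mul, inv_one, mul_one, inv_mul_cancel_left]
    refine list_prod_mem fun z hz => ?_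
    obtain ⟨i, hi, rfl⟩ := List.mem_map.mp hz
    exact mem_centralizer_iff.mpr fun y hy => IsCompIn.commute hL (hLi (i + 1))
      (hinj (i + 1) (Nat.succ_pos i) (Nat.succ_lt_succ (List.mem_range.mp hi))).symm y hy _ (hmem (i + 1))
  · intro D hD hne
    refine list_prod_mem fun z hz => ?_
    obtain ⟨i, -, rfl⟩ := List.mem_map.mp hz
    exact mem_centralizer_iff.mpr fun y hy => IsCompIn.commute hD (hLi i) (hne _ (pow_mem hbR i)).symm y hy _ (hmem i)

/-- The hypotheses on `K`. -/
structure CommConj (G R K : Subgroup Γ) (r : ℕ) : Prop where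
  prime : r.Prime
  card : Nat.card R = r
  cop : ¬ r ∣ Nat.card G
  norm : R ≤ normalizer (G : Set Γ)
  le : K ≤ G
  qs : Cfsg.IsQuasisimple ↥K
  comm : ∀ g ∈ R ⊔ (G ⊓ centralizer (R : Set Γ)), MulAut.conj g • K ≠ K → ⁅K, MulAut.conj g • K⁆ = ⊥

namespace CommConj

variable {G R K : Subgroup Γ} {r : ℕ} (h : CommConj G R K r)
include h

omit [Finite Γ] in
theorem perfect : ⁅K, K⁆ = K := Subgroup.isPerfect_iff.mp h.qs.1

omit [Finite Γ] in
theorem normalizes_conj {g : Γ} (hg : g ∈ R ⊔ (G ⊓ centralizer (R : Set Γ))) :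
    MulAut.conj g • K ≤ normalizer (K : Set Γ) := by
  by_cases e : MulAut.conj g • K = K
  · rw [e]; exact le_normalizer
  · have h1 := h.comm g hg e
    rw [commutator_comm] at h1
    exact (commutator_eq_bot_iff_le_centralizer.mp h1).trans (centralizer_le_normalizer _)

/-- Conjugates with the same full projection are equal. -/
theorem mem_normalizer_of_full {L : Subgroup Γ} (hLp : ⁅L, L⁆ = L) (hLq : ¬ L ≤ centralizer (L : Set Γ))
    (hKL : K ≤ normalizer (L : Set Γ)) {g : Γ} (hg : g ∈ R ⊔ (G ⊓ centralizer (R : Set Γ)))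
    (h1 : L ≤ K ⊔ centralizer (L : Set Γ)) (h2 : L ≤ MulAut.conj g • K ⊔ centralizer (L : Set Γ))
    (hgL : MulAut.conj g • K ≤ normalizer (L : Set Γ)) : g ∈ normalizer (K : Set Γ) := by
  rw [mem_normalizer_iff_smul]
  by_contra hne
  refine hLq ?_
  calc L = ⁅L, L⁆ := hLp.symm
    _ ≤ ⁅centralizer (L : Set Γ) ⊔ K, centralizer (L : Set Γ) ⊔ MulAut.conj g • K⁆ :=
        commutator_mono (by rw [sup_comm]; exact h1) (by rw [sup_comm]; exact h2)
    _ ≤ centralizer (L : Set Γ) ⊔ ⁅K, MulAut.conj g • K⁆ :=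
        commutator_sup_le (normalizes_centralizer hKL) (normalizes_centralizer hgL)
    _ = centralizer (L : Set Γ) := by rw [h.comm g hg hne, sup_bot_eq]

/-- A moved component is covered by the projection of `K`. -/
theorem full {L : Subgroup Γ} (hKE : K ≤ layerSet G) (hL : IsCompIn G L) (hne : ¬ K ≤ centralizer (L : Set Γ))
    (hmoved : ¬ R ≤ normalizer (L : Set Γ)) : L ≤ K ⊔ centralizer (L : Set Γ) := by
  have hKL : K ≤ normalizer (L : Set Γ) := hKE.trans (layer_le_normalizer hL)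
  obtain ⟨D, hD⟩ : ∃ D, D = centralizer (L : Set Γ) := ⟨_, rfl⟩
  obtain ⟨P, hP⟩ : ∃ P, P = L ⊓ (K ⊔ D) := ⟨_, rfl⟩
  obtain ⟨Q, hQ⟩ : ∃ Q, Q = ⁅P, P⁆ := ⟨_, rfl⟩
  have hKD : K ≤ normalizer (D : Set Γ) := hD ▸ normalizes_centralizer hKL
  have hPL : P ≤ L := hP ▸ inf_le_left
  have hQP : Q ≤ P := hQ ▸ commutator_le_self P
  have hPD : P ≤ normalizer (D : Set Γ) := hD ▸ hPL.trans (normalizes_centralizer le_normalizer)
  -- `x` moves `Q` to itself or to a commuting subgroup
  have hstep : ∀ x ∈ L, x ∈ normalizer (Q : Set Γ) ∨ MulAut.conj x • Q ≤ centralizer (Q : Set Γ) := by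
    intro x hx
    obtain ⟨c, hc, hxc, -⟩ := exists_diag h.prime h.card h.norm hL hmoved hx
    have hxc' : x⁻¹ * c ∈ D := hD ▸ hxc
    have hcL : c ∈ normalizer (L : Set Γ) := by
      have h1 := (normalizer (L : Set Γ)).mul_mem (le_normalizer hx) (centralizer_le_normalizer _ hxc)
      simpa using h1
    have hLfix : ∀ y ∈ L, x * y * x⁻¹ = c * y * c⁻¹ := by
      intro y hy
      have h1 : (x⁻¹ * c) * y * (x⁻¹ * c)⁻¹ = y :=
        mul_inv_eq_iff_eq_mul.mpr (mem_centralizer_iff.mp hxc y hy).symm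
      calc x * y * x⁻¹ = x * ((x⁻¹ * c) * y * (x⁻¹ * c)⁻¹) * x⁻¹ := by rw [h1]
        _ = c * y * c⁻¹ := by group
    have hcD : MulAut.conj c • D = D :=
      mem_normalizer_iff_smul.mp (hD ▸ normalizes_centralizer (le_refl _) hcL)
    have hxP : MulAut.conj x • P = L ⊓ (MulAut.conj c • K ⊔ D) := by
      have hsame : MulAut.conj x • P = MulAut.conj c • P := by
        ext z
        simp only [mem_smul_conj]
        constructor <;> intro hz
        · have e := hLfix _ (hPL hz)
          rw [show x * (x⁻¹ * z * x) * x⁻¹ = z by group] at e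
          rw [show c⁻¹ * z * c = x⁻¹ * z * x from by
            conv_lhs => rw [e]
            group]
          exact hz
        · have e := hLfix _ (hPL hz)
          rw [show c * (c⁻¹ * z * c) * c⁻¹ = z by group] at e
          rw [show x⁻¹ * z * x = c⁻¹ * z * c from by
            conv_lhs => rw [← e]
            group]
          exact hz
      rw [hsame, hP, Subgroup.smul_inf, smul_sup, hcD, mem_normalizer_iff_smul.mp hcL]
    by_cases e : MulAut.conj c • K = K
    · refine Or.inl ?_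
      rw [e, ← hP] at hxP
      rw [mem_normalizer_iff_smul, hQ, ← map_conj_eq_smul, Subgroup.map_commutator, map_conj_eq_smul, hxP]
    · refine Or.inr ?_
      have hcomm := h.comm c (mem_sup_right hc) e
      have hP1 : P ≤ D ⊔ K := hP ▸ inf_le_right.trans (le_of_eq (sup_comm _ _))
      have hP2 : MulAut.conj x • P ≤ D ⊔ MulAut.conj c • K := hxP.le.trans (inf_le_right.trans (le_of_eq (sup_comm _ _)))
      have hcK : MulAut.conj c • K ≤ normalizer (D : Set Γ) := by
        have hcGL : c ∈ normalizer (D : Set Γ) := mem_normalizer_iff_smul.mpr hcD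
        intro z hz
        obtain ⟨k, hk, rfl⟩ := mem_smul_pointwise_iff_exists z (MulAut.conj c) K |>.mp hz
        exact (normalizer (D : Set Γ)).mul_mem ((normalizer (D : Set Γ)).mul_mem hcGL (hKD hk))
          ((normalizer (D : Set Γ)).inv_mem hcGL)
      have h1 : ⁅P, MulAut.conj x • P⁆ ≤ D := (commutator_mono hP1 hP2).trans
        ((commutator_sup_le hKD hcK).trans (by rw [hcomm, sup_bot_eq]))
      have hxPL : MulAut.conj x • P ≤ L := hxP.le.trans inf_le_left
      have h2 : ⁅⁅P, MulAut.conj x • P⁆, P⁆ = ⊥ := by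
        refine le_bot_iff.mp ((commutator_mono h1 hPL).trans ?_)
        rw [hD]
        exact (commutator_eq_bot_iff_le_centralizer.mpr le_rfl).le
      have h3 : ⁅⁅P, P⁆, MulAut.conj x • P⁆ = ⊥ :=
        commutator_commutator_eq_bot_of_rotate h2 (by rw [commutator_comm (MulAut.conj x • P) P]; exact h2)
      rw [← hQ, commutator_comm, commutator_eq_bot_iff_le_centralizer] at h3
      exact le_trans (pointwise_smul_le_pointwise_smul_iff.mpr hQP) h3
  -- `Q` is not central
  have hQne : ¬ Q ≤ centralizer (L : Set Γ) := by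
    intro hQc
    refine hne ?_
    have hKP : K ≤ D ⊔ P := by
      intro k hk
      obtain ⟨y, hy, hyk⟩ := layer_decomp hL (hKE hk)
      have hyk' : y⁻¹ * k ∈ D := hD ▸ hyk
      have hyP : y ∈ P := by
        rw [hP]
        refine ⟨hy, ?_⟩
        have h1 : k * (y⁻¹ * k)⁻¹ ∈ K ⊔ D := mul_mem (mem_sup_left hk) (mem_sup_right (inv_mem hyk'))
        simpa using h1
      have h2 : y * (y⁻¹ * k) ∈ D ⊔ P := mul_mem (mem_sup_right hyP) (mem_sup_left hyk')
      simpa using h2
    calc K = ⁅K, K⁆ := h.perfect.symm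
      _ ≤ ⁅D ⊔ P, D ⊔ P⁆ := commutator_mono hKP hKP
      _ ≤ D ⊔ ⁅P, P⁆ := commutator_sup_le hPD hPD
      _ ≤ centralizer (L : Set Γ) := sup_le hD.le (hQ ▸ hQc)
  obtain ⟨M, hM⟩ : ∃ M, M = sSup ((fun x => MulAut.conj x • Q) '' (L : Set Γ)) := ⟨_, rfl⟩
  have hMQ : M ≤ normalizer (Q : Set Γ) := by
    rw [hM]
    refine sSup_le ?_
    rintro _ ⟨x, hx, rfl⟩
    rcases hstep x hx with e | e
    · show MulAut.conj x • Q ≤ _
      rw [mem_normalizer_iff_smul.mp e]; exact le_normalizer
    · exact e.trans (centralizer_le_normalizer _)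
  have hQM : Q ≤ M := hM ▸ le_sSup ⟨1, L.one_mem, by simp⟩
  have hML : M ≤ L := hM ▸ sSup_le (by
    rintro _ ⟨x, hx, rfl⟩
    exact (pointwise_smul_le_pointwise_smul_iff.mpr (hQP.trans hPL)).trans (conj_smul_eq_self_of_mem hx).le)
  have hLM : L ≤ normalizer (M : Set Γ) := by
    intro y hy
    refine mem_normalizer_fintype fun z hz => ?_
    have step : MulAut.conj y • M ≤ M := by
      rw [← map_conj_eq_smul, map_le_iff_le_comap]
      conv_lhs => rw [hM]
      refine sSup_le ?_
      rintro _ ⟨x, hx, rfl⟩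
      rw [← map_le_iff_le_comap, map_conj_eq_smul, conj_smul_conj_smul, hM]
      exact le_sSup ⟨y * x, L.mul_mem hy hx, rfl⟩
    exact step (smul_mem_pointwise_smul z (MulAut.conj y) M hz)
  have key : ∀ S : Subgroup Γ, S ≤ L → L ≤ normalizer (S : Set Γ) → Q ≤ S → L ≤ S := by
    intro S hS hn hQS
    haveI : (S.subgroupOf L).Normal := normal_subgroupOf_of_le_normalizer hn
    rcases IsQuasisimple.eq_top_or_le_center hL.qs (S.subgroupOf L) with e | e
    · exact subgroupOf_eq_top.mp e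
    · exact absurd (fun z hz => mem_centralizer_iff.mpr fun y hy => congrArg Subtype.val
        (mem_center_iff.mp (e (show (⟨z, hS (hQS hz)⟩ : ↥L) ∈ S.subgroupOf L from hQS hz)) ⟨y, hy⟩)) hQne
  have hLQ : L ≤ Q := key Q (hQP.trans hPL) ((key M hML hLM hQM).trans hMQ) le_rfl
  exact hLQ.trans (hQP.trans (hP ▸ hD ▸ inf_le_right))

/-- The case of `K` inside the layer, not centralised by `R`. -/
theorem of_layer (hKE : K ≤ layerSet G) (hKR : ¬ R ≤ centralizer (K : Set Γ)) :
    IsCompIn G K ∨ ∃ L, IsCompIn G L ∧ R ≤ normalizer (L : Set Γ) ∧ K ≤ L := by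
  have hex : ∃ L, IsCompIn G L ∧ ¬ K ≤ centralizer (L : Set Γ) := by
    by_contra hno
    push Not at hno
    refine not_le_centralizer_self h.qs ?_
    refine fun a ha => mem_centralizer_iff.mpr fun b hb => ?_
    have h1 : layerSet G ≤ centralizer (K : Set Γ) := sSup_le fun D hD => le_centralizer_iff.mp (hno D hD)
    exact (mem_centralizer_iff.mp (h1 (hKE hb)) a ha).symm
  obtain ⟨L, hL, hKL'⟩ := hex
  have hKL : K ≤ normalizer (L : Set Γ) := hKE.trans (layer_le_normalizer hL)
  have hLq := not_le_centralizer_self hL.qs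
  have hLp := IsCompIn.perfect' hL
  by_cases hone : ∀ D, IsCompIn G D → ¬ K ≤ centralizer (D : Set Γ) → D = L
  · -- `K` lies in `L`
    obtain ⟨Z, hZ⟩ : ∃ Z, Z = layerSet G ⊓ centralizer (layerSet G : Set Γ) := ⟨_, rfl⟩
    have hKLZ : K ≤ L ⊔ Z := by
      intro k hk
      obtain ⟨y, hy, hyk⟩ := layer_decomp hL (hKE hk)
      have hw : y⁻¹ * k ∈ Z := by
        rw [hZ]
        refine ⟨(layerSet G).mul_mem ((layerSet G).inv_mem ((le_sSup hL : L ≤ layerSet G) hy)) (hKE hk), mem_centralizer_iff.mpr ?_⟩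
        have hle : layerSet G ≤ centralizer ({y⁻¹ * k} : Set Γ) := sSup_le fun D hD a ha => by
          rw [mem_centralizer_singleton_iff]
          by_cases e : D = L
          · exact mem_centralizer_iff.mp hyk a (e ▸ ha)
          · have hKD : K ≤ centralizer (D : Set Γ) := by_contra fun hn => e (hone D hD hn)
            have h1 : Commute a k := mem_centralizer_iff.mp (hKD hk) a ha
            have h2 : Commute a y := IsCompIn.commute hD hL e a ha y hy
            exact (h2.inv_right.mul_right h1).eq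
        exact fun a ha => mem_centralizer_singleton_iff.mp (hle ha)
      have := mul_mem_sup (S := L) (T := Z) hy hw
      simpa using this
    have hZL : Z ≤ normalizer (L : Set Γ) := hZ ▸ inf_le_left.trans (layer_le_normalizer hL)
    have hZZ : ⁅Z, Z⁆ = ⊥ := commutator_eq_bot_iff_le_centralizer.mpr (hZ ▸ inf_le_right.trans (centralizer_le inf_le_left))
    have hle : K ≤ L := by
      calc K = ⁅K, K⁆ := h.perfect.symm
        _ ≤ ⁅L ⊔ Z, L ⊔ Z⁆ := commutator_mono hKLZ hKLZ
        _ ≤ L ⊔ ⁅Z, Z⁆ := commutator_sup_le hZL hZL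
        _ = L := by rw [hZZ, sup_bot_eq]
    by_cases hLR : R ≤ normalizer (L : Set Γ)
    · exact Or.inr ⟨L, hL, hLR, hle⟩
    -- `K` is normal in the moved component
    refine Or.inl ?_
    suffices e : K = L by rw [e]; exact hL
    have hconj : ∀ x ∈ L, MulAut.conj x • K ≤ normalizer (K : Set Γ) := by
      intro x hx
      obtain ⟨c, hc, hxc, -⟩ := exists_diag h.prime h.card h.norm hL hLR hx
      have hfix : MulAut.conj (x⁻¹ * c) • K = K := mem_normalizer_iff_smul.mp
        (centralizer_le_normalizer _ (centralizer_le hle hxc))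
      conv_lhs => rw [← hfix, conj_smul_conj_smul, mul_inv_cancel_left]
      exact h.normalizes_conj (mem_sup_right hc)
    obtain ⟨M, hM⟩ : ∃ M, M = sSup ((fun x => MulAut.conj x • K) '' (L : Set Γ)) := ⟨_, rfl⟩
    have key : ∀ S : Subgroup Γ, S ≤ L → L ≤ normalizer (S : Set Γ) → K ≤ S → L ≤ S := by
      intro S hS hn hKS
      haveI : (S.subgroupOf L).Normal := normal_subgroupOf_of_le_normalizer hn
      rcases IsQuasisimple.eq_top_or_le_center hL.qs (S.subgroupOf L) with e | e
      · exact subgroupOf_eq_top.mp e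
      · exact absurd (fun z hz => mem_centralizer_iff.mpr fun y hy => congrArg Subtype.val
          (mem_center_iff.mp (e (show (⟨z, hS (hKS hz)⟩ : ↥L) ∈ S.subgroupOf L from hKS hz)) ⟨y, hle hy⟩))
          (not_le_centralizer_self h.qs)
    have hKM : K ≤ M := hM ▸ le_sSup ⟨1, L.one_mem, by simp⟩
    have hML : M ≤ L := hM ▸ sSup_le (by
      rintro _ ⟨x, hx, rfl⟩
      exact (pointwise_smul_le_pointwise_smul_iff.mpr hle).trans (conj_smul_eq_self_of_mem hx).le)
    have hMK : M ≤ normalizer (K : Set Γ) := hM ▸ sSup_le (by rintro _ ⟨x, hx, rfl⟩; exact hconj x hx)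
    have hLM : L ≤ normalizer (M : Set Γ) := by
      intro y hy
      refine mem_normalizer_fintype fun z hz => ?_
      have step : MulAut.conj y • M ≤ M := by
        rw [← map_conj_eq_smul, map_le_iff_le_comap]
        conv_lhs => rw [hM]
        refine sSup_le ?_
        rintro _ ⟨x, hx, rfl⟩
        rw [← map_le_iff_le_comap, map_conj_eq_smul, conj_smul_conj_smul, hM]
        exact le_sSup ⟨y * x, L.mul_mem hy hx, rfl⟩
      exact step (smul_mem_pointwise_smul z (MulAut.conj y) M hz)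
    exact le_antisymm hle (key K hle ((key M hML hLM hKM).trans hMK) le_rfl)
  exfalso
  simp only [not_forall] at hone
  obtain ⟨L₂, hL₂, hKL₂', hne⟩ := hone
  have hKL₂ : K ≤ normalizer (L₂ : Set Γ) := hKE.trans (layer_le_normalizer hL₂)
  by_cases hmv : ∃ D, IsCompIn G D ∧ ¬ K ≤ centralizer (D : Set Γ) ∧ ¬ R ≤ normalizer (D : Set Γ)
  · obtain ⟨D, hD, hKD', hDR⟩ := hmv
    obtain ⟨D₂, hD₂, hKD₂', hDne⟩ : ∃ D₂, IsCompIn G D₂ ∧ ¬ K ≤ centralizer (D₂ : Set Γ) ∧ D₂ ≠ D := by
      by_cases e : L = D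
      · exact ⟨L₂, hL₂, hKL₂', fun e' => hne (e'.trans e.symm)⟩
      · exact ⟨L, hL, hKL', e⟩
    have hKD : K ≤ normalizer (D : Set Γ) := hKE.trans (layer_le_normalizer hD)
    have hKD₂ : K ≤ normalizer (D₂ : Set Γ) := hKE.trans (layer_le_normalizer hD₂)
    have hfull := h.full hKE hD hKD' hDR
    have hDp := IsCompIn.perfect' hD
    have hDq := not_le_centralizer_self hD.qs
    have hdiag : ∀ x ∈ D, ∃ c ∈ G ⊓ centralizer (R : Set Γ), x⁻¹ * c ∈ centralizer (D : Set Γ) ∧
        c ∈ normalizer (K : Set Γ) ∧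
        ∀ D', IsCompIn G D' → (∀ g ∈ R, MulAut.conj g • D ≠ D') → c ∈ centralizer (D' : Set Γ) := by
      intro x hx
      obtain ⟨c, hc, hxc, hcD'⟩ := exists_diag h.prime h.card h.norm hD hDR hx
      refine ⟨c, hc, hxc, ?_, hcD'⟩
      have hcD : c ∈ normalizer (D : Set Γ) := by
        have h1 := (normalizer (D : Set Γ)).mul_mem (le_normalizer hx) (centralizer_le_normalizer _ hxc)
        simpa using h1
      refine h.mem_normalizer_of_full hDp hDq hKD (mem_sup_right hc) hfull ?_ ?_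
      · have h1 := pointwise_smul_le_pointwise_smul_iff (a := MulAut.conj c).mpr hfull
        rwa [smul_sup, mem_normalizer_iff_smul.mp hcD,
          mem_normalizer_iff_smul.mp (normalizes_centralizer (le_refl _) hcD)] at h1
      · intro z hz
        obtain ⟨k, hk, rfl⟩ := (mem_smul_pointwise_iff_exists z (MulAut.conj c) K).mp hz
        exact (normalizer (D : Set Γ)).mul_mem ((normalizer (D : Set Γ)).mul_mem hcD (hKD hk))
          ((normalizer (D : Set Γ)).inv_mem hcD)
    -- the second component is in the orbit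
    obtain ⟨g, hg, hgD⟩ : ∃ g ∈ R, MulAut.conj g • D = D₂ := by
      by_contra hno
      push Not at hno
      refine hDq ?_
      conv_lhs => rw [← hDp]
      refine commutator_le.mpr fun x hx y hy => ?_
      obtain ⟨c, hc, hxc, hcK, hcD'⟩ := hdiag x hx
      have hcD₂ := hcD' D₂ hD₂ hno
      have hcc : c ∈ centralizer (K : Set Γ) := by
        refine centralizes_of_mod h.perfect hcK fun k hk z hz => ?_
        refine inf_centralizer_central h.qs hKD₂ hKD₂' (K.mul_mem ((mem_normalizer_iff.mp hcK k).mp hk) (K.inv_mem hk)) ?_ z hz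
        have h1 := normalizes_centralizer hKD₂ hk
        have h2 : k * c⁻¹ * k⁻¹ ∈ centralizer (D₂ : Set Γ) := (mem_normalizer_iff.mp h1 _).mp (inv_mem hcD₂)
        have h3 := mul_mem hcD₂ h2
        rwa [show c * k * c⁻¹ * k⁻¹ = c * (k * c⁻¹ * k⁻¹) by group]
      have hy' : y ∈ ((K ⊔ centralizer (D : Set Γ) : Subgroup Γ) : Set Γ) := hfull hy
      rw [coe_mul_of_left_le_normalizer_right K (centralizer (D : Set Γ)) (normalizes_centralizer hKD)] at hy'
      obtain ⟨k, hk, e, he, hke⟩ := hy'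
      have hcN : c ∈ normalizer (D : Set Γ) := by
        have h1 := (normalizer (D : Set Γ)).mul_mem (le_normalizer hx) (centralizer_le_normalizer _ hxc)
        simpa using h1
      have h1 : x * y * x⁻¹ = c * y * c⁻¹ := by
        have h2 : (x⁻¹ * c) * y * (x⁻¹ * c)⁻¹ = y :=
          mul_inv_eq_iff_eq_mul.mpr (mem_centralizer_iff.mp hxc y hy).symm
        calc x * y * x⁻¹ = x * ((x⁻¹ * c) * y * (x⁻¹ * c)⁻¹) * x⁻¹ := by rw [h2]
          _ = c * y * c⁻¹ := by group
      have h2 : ⁅x, y⁆ = k * (c * e * c⁻¹ * e⁻¹) * k⁻¹ := by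
        have h3 : c * k * c⁻¹ = k := mul_inv_eq_iff_eq_mul.mpr (mem_centralizer_iff.mp hcc k hk).symm
        rw [commutatorElement_def, h1, ← hke]
        calc c * (k * e) * c⁻¹ * (k * e)⁻¹ = (c * k * c⁻¹) * (c * e * c⁻¹ * e⁻¹) * k⁻¹ := by group
          _ = _ := by rw [h3]
      rw [h2]
      exact (mem_normalizer_iff.mp (normalizes_centralizer hKD hk) _).mp
        (mul_mem ((mem_normalizer_iff.mp (normalizes_centralizer (le_refl _) hcN) e).mp he) (inv_mem he))
    -- `R` normalises `K`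
    have hgG : g ∈ normalizer (G : Set Γ) := h.norm hg
    have hD₂R : ¬ R ≤ normalizer (D₂ : Set Γ) := fun hle => hDne (by
      have h1 := mem_normalizer_iff_smul.mp (hle (R.inv_mem hg))
      rw [← hgD, conj_smul_conj_smul, inv_mul_cancel, map_one, one_smul] at h1
      exact h1.symm ▸ hgD.symm)
    have hfull₂ := h.full hKE hD₂ hKD₂' hD₂R
    have hgK : g ∈ normalizer (K : Set Γ) := by
      refine h.mem_normalizer_of_full (IsCompIn.perfect' hD₂) (not_le_centralizer_self hD₂.qs) hKD₂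
        (mem_sup_left hg) hfull₂ ?_ ?_
      · have h1 := pointwise_smul_le_pointwise_smul_iff (a := MulAut.conj g).mpr hfull
        rw [smul_sup, hgD] at h1
        refine h1.trans (sup_le_sup_left ?_ _)
        intro z hz
        obtain ⟨u, hu, rfl⟩ := (mem_smul_pointwise_iff_exists z (MulAut.conj g) (centralizer (D : Set Γ))).mp hz
        refine mem_centralizer_iff.mpr fun y hy => ?_
        rw [← hgD] at hy
        obtain ⟨v, hv, rfl⟩ := (mem_smul_pointwise_iff_exists y (MulAut.conj g) D).mp hy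
        show MulAut.conj g v * MulAut.conj g u = MulAut.conj g u * MulAut.conj g v
        rw [← map_mul, ← map_mul, mem_centralizer_iff.mp hu v hv]
      · intro z hz
        obtain ⟨k, hk, rfl⟩ := (mem_smul_pointwise_iff_exists z (MulAut.conj g) K).mp hz
        rw [mem_normalizer_iff_smul, ← hgD]
        show MulAut.conj (g * k * g⁻¹) • MulAut.conj g • D = MulAut.conj g • D
        rw [conj_smul_conj_smul, inv_mul_cancel_right, ← conj_smul_conj_smul, mem_normalizer_iff_smul.mp (hKD hk)]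
    have hRK : R ≤ normalizer (K : Set Γ) := by
      haveI := Fact.mk h.prime
      have hg1 : g ≠ 1 := by rintro rfl; exact hDne (by rw [← hgD, map_one, one_smul])
      have h1 : zpowers (⟨g, hg⟩ : ↥R) = ⊤ := zpowers_eq_top_of_prime_card h.card (fun e => hg1 (congrArg Subtype.val e))
      intro a ha
      obtain ⟨j, hj⟩ := mem_zpowers_iff.mp (h1.ge (mem_top (⟨a, ha⟩ : ↥R)))
      rw [← show ((⟨g, hg⟩ : ↥R) ^ j : ↥R).1 = a from congrArg Subtype.val hj, Subgroup.coe_zpow]
      exact zpow_mem hgK j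
    -- `R` centralises `K`
    refine hKR fun a ha => centralizes_of_mod h.perfect (hRK ha) fun k hk => ?_
    obtain ⟨x, hx, hxk⟩ := layer_decomp hD (hKE hk)
    obtain ⟨c, hc, hxc, hcK, -⟩ := hdiag x hx
    have hwK : c⁻¹ * k ∈ normalizer (K : Set Γ) := mul_mem (inv_mem hcK) (le_normalizer hk)
    have hwD : c⁻¹ * k ∈ centralizer (D : Set Γ) := by
      have h1 := mul_mem (inv_mem hxc) hxk
      rwa [show (x⁻¹ * c)⁻¹ * (x⁻¹ * k) = c⁻¹ * k by group] at h1
    have hw : c⁻¹ * k ∈ centralizer (K : Set Γ) := by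
      refine centralizes_of_mod h.perfect hwK fun u hu y hy => ?_
      refine inf_centralizer_central h.qs hKD hKD' (K.mul_mem ((mem_normalizer_iff.mp hwK u).mp hu) (K.inv_mem hu)) ?_ y hy
      have h2 := (mem_normalizer_iff.mp (normalizes_centralizer hKD hu) _).mp (inv_mem hwD)
      have h3 := mul_mem hwD h2
      rwa [show c⁻¹ * k * u * (c⁻¹ * k)⁻¹ * u⁻¹ = c⁻¹ * k * (u * (c⁻¹ * k)⁻¹ * u⁻¹) by group]
    have hca : a * c * a⁻¹ = c := mul_inv_eq_iff_eq_mul.mpr (mem_centralizer_iff.mp hc.2 a ha)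
    have hwa : a * (c⁻¹ * k) * a⁻¹ ∈ centralizer (K : Set Γ) :=
      (mem_normalizer_iff.mp (normalizes_centralizer (le_refl _) (hRK ha)) _).mp hw
    have hfinal : a * k * a⁻¹ * k⁻¹ ∈ centralizer (K : Set Γ) := by
      have e : a * (c⁻¹ * k) * a⁻¹ = c⁻¹ * (a * k * a⁻¹) := by
        calc a * (c⁻¹ * k) * a⁻¹ = (a * c * a⁻¹)⁻¹ * (a * k * a⁻¹) := by group
          _ = _ := by rw [hca]
      have h1 := mul_mem hwa (inv_mem hw)
      rw [e, show c⁻¹ * (a * k * a⁻¹) * (c⁻¹ * k)⁻¹ = c⁻¹ * (a * k * a⁻¹ * k⁻¹) * c by group] at h1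
      have h2 := (mem_normalizer_iff.mp (normalizes_centralizer (le_refl _) hcK) _).mp h1
      rwa [show c * (c⁻¹ * (a * k * a⁻¹ * k⁻¹) * c) * c⁻¹ = a * k * a⁻¹ * k⁻¹ by group] at h2
    exact fun y hy => mem_centralizer_iff.mp hfinal y hy
  -- all components involved are normalised by `R`
  push Not at hmv
  have hLR : R ≤ normalizer (L : Set Γ) := hmv L hL hKL'
  obtain ⟨F, hF⟩ : ∃ F, F = L ⊓ centralizer (R : Set Γ) := ⟨_, rfl⟩
  have hKF : ∀ c ∈ F, c ∈ centralizer (K : Set Γ) := by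
    intro c hc
    rw [hF] at hc
    have hcL₂ : c ∈ centralizer (L₂ : Set Γ) := mem_centralizer_iff.mpr fun y hy =>
      IsCompIn.commute hL₂ hL hne y hy c hc.1
    have hcY : c ∈ R ⊔ (G ⊓ centralizer (R : Set Γ)) := mem_sup_right ⟨hL.le hc.1, hc.2⟩
    have hc₂ := normalizes_centralizer hKL₂
    have hcK : c ∈ normalizer (K : Set Γ) := by
      rw [mem_normalizer_iff_smul]
      by_contra hneK
      have hcomm := h.comm c hcY hneK
      refine hKL₂' ?_
      obtain ⟨K', hK'⟩ : ∃ K', K' = MulAut.conj c • K := ⟨_, rfl⟩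
      rw [← hK'] at hcomm
      have hKK' : K ≤ centralizer (L₂ : Set Γ) ⊔ K' := by
        intro k hk
        have hk' : c * k * c⁻¹ ∈ K' := hK' ▸ smul_mem_pointwise_smul k (MulAut.conj c) K hk
        have h1 : k * (c * k * c⁻¹)⁻¹ ∈ centralizer (L₂ : Set Γ) := by
          have h2 := (mem_normalizer_iff.mp (hc₂ hk) c).mp hcL₂
          have h3 := mul_mem h2 (inv_mem hcL₂)
          rwa [show k * (c * k * c⁻¹)⁻¹ = (k * c * k⁻¹) * c⁻¹ by group]
        have := mul_mem_sup (S := centralizer (L₂ : Set Γ)) (T := K') h1 hk'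
        rwa [inv_mul_cancel_right] at this
      calc K = ⁅K, K⁆ := h.perfect.symm
        _ ≤ ⁅centralizer (L₂ : Set Γ) ⊔ K, centralizer (L₂ : Set Γ) ⊔ K'⁆ := commutator_mono le_sup_right hKK'
        _ ≤ centralizer (L₂ : Set Γ) ⊔ ⁅K, K'⁆ := commutator_sup_le hc₂ (by
            intro z hz
            rw [hK'] at hz
            obtain ⟨k, hk, rfl⟩ := (mem_smul_pointwise_iff_exists z (MulAut.conj c) K).mp hz
            exact mul_mem (mul_mem (le_normalizer hcL₂) (hc₂ hk)) (inv_mem (le_normalizer hcL₂)))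
        _ = _ := by rw [hcomm, sup_bot_eq]
    refine centralizes_of_mod h.perfect hcK fun k hk y hy => ?_
    refine inf_centralizer_central h.qs hKL₂ hKL₂' (K.mul_mem ((mem_normalizer_iff.mp hcK k).mp hk) (K.inv_mem hk)) ?_ y hy
    have h2 : k * c⁻¹ * k⁻¹ ∈ centralizer (L₂ : Set Γ) := (mem_normalizer_iff.mp (hc₂ hk) _).mp (inv_mem hcL₂)
    have h3 := mul_mem hcL₂ h2
    rwa [show c * k * c⁻¹ * k⁻¹ = c * (k * c⁻¹ * k⁻¹) by group]
  obtain ⟨M, hM⟩ : ∃ M, M = L ⊓ centralizer (F : Set Γ) := ⟨_, rfl⟩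
  have hRF : R ≤ centralizer (F : Set Γ) := le_centralizer_iff.mp (hF ▸ inf_le_right)
  have hRM : R ≤ normalizer (M : Set Γ) := by
    intro a ha
    rw [mem_normalizer_iff_smul, hM, Subgroup.smul_inf, mem_normalizer_iff_smul.mp (hLR ha),
      conj_smul_eq_self_of_mem (hRF ha)]
  have hMs : Group.IsSolvable M := by
    refine isSolvable_of_fixed_central h.prime h.card hRM
      (fun hd => h.cop (hd.trans (card_dvd_of_le ((hM ▸ inf_le_left : M ≤ L).trans hL.le)))) ?_
    refine (hM ▸ inf_le_right : M ≤ centralizer (F : Set Γ)).trans (centralizer_le ?_)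
    rw [hF]
    exact inf_le_inf_right _ (hM ▸ inf_le_left)
  obtain ⟨D, hDdef⟩ : ∃ D, D = centralizer (L : Set Γ) := ⟨_, rfl⟩
  have hML : M ≤ L := hM ▸ inf_le_left
  have hMD : M ≤ normalizer (D : Set Γ) := hDdef ▸ hML.trans (normalizes_centralizer le_normalizer)
  have hKM : K ≤ D ⊔ M := by
    intro k hk
    obtain ⟨y, hy, hyk⟩ := layer_decomp hL (hKE hk)
    have hyM : y ∈ M := by
      rw [hM]
      refine ⟨hy, mem_centralizer_iff.mpr fun c hc => ?_⟩
      have hcF : c ∈ L := (hF ▸ hc : c ∈ L ⊓ centralizer (R : Set Γ)).1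
      have h1 : Commute c k := (mem_centralizer_iff.mp (hKF c hc) k hk).symm
      have h2 : Commute c (y⁻¹ * k) := mem_centralizer_iff.mp hyk c hcF
      have h3 := h1.mul_right h2.inv_right
      rw [mul_inv_rev, inv_inv, mul_inv_cancel_left] at h3
      exact h3.eq
    have := mul_mem (mem_sup_right (S := D) hyM) (mem_sup_left (T := M) (hDdef ▸ hyk : y⁻¹ * k ∈ D))
    simpa using this
  refine hKL' ?_
  obtain ⟨n, hn⟩ := hMs.solvable
  have key : ∀ i, K ≤ D ⊔ (derivedSeries ↥M i).map M.subtype := by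
    intro i
    induction i with
    | zero => rw [derivedSeries_zero, ← MonoidHom.range_eq_map, range_subtype]; exact hKM
    | succ i ih =>
      have hn' : (derivedSeries ↥M i).map M.subtype ≤ normalizer (D : Set Γ) := (map_subtype_le _).trans hMD
      calc K = ⁅K, K⁆ := h.perfect.symm
        _ ≤ _ := commutator_mono ih ih
        _ ≤ _ := commutator_sup_le hn' hn'
        _ = _ := by rw [derivedSeries_succ, Subgroup.map_commutator]
  have h1 := key n
  rw [hn, Subgroup.map_bot, sup_bot_eq] at h1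
  exact hDdef ▸ h1

end CommConj

end Cfsg.Agent.Grp.FlavellCoprime
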