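import Mathlib
import Cfsg.Agent.Lib.Grp.FlavellCoprime.Component

/-!
The two consequences for groups with an automorphism of prime order, given the module theorem.
-/

set_option autoImplicit false

namespace Cfsg.Agent.Grp.FlavellCoprime

open Subgroup
open scoped commutatorElement Pointwise

universe u

variable {X : Type u} [Group X] [Finite X]

theorem layer_subset (hS : ModuleStep.{u}) (G R : Subgroup X) (r : ℕ) [Fact r.Prime] (hR : Nat.card ↥R = r)
    (hcop : (Nat.card ↥G).Coprime r) (hnorm : R ≤ Subgroup.normalizer (G : Set X)) (H : Subgroup X) (hHG : H ≤ G)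
    (hHinv : R ⊔ (G ⊓ Subgroup.centralizer (R : Set X)) ≤ Subgroup.normalizer (H : Set X)) (hHR : ⁅H, R⁆ = H) :
    (Cfsg.layer ↥H).map H.subtype ≤ (Cfsg.layer ↥G).map G.subtype := by
  rw [← layerSet_eq, ← layerSet_eq]
  exact layerSet_le hS G R H r Fact.out hR ((Fact.out : r.Prime).coprime_iff_not_dvd.mp hcop.symm) hnorm hHG
    (le_sup_left.trans hHinv) (le_sup_right.trans hHinv) hHR

/-- A subgroup normalised by every conjugate in a generating family is normal there. -/
theorem isSubnormal_in_sSup {K : Subgroup X} {S : Set (Subgroup X)} (hK : K ∈ S)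
    (hn : ∀ D ∈ S, D ≤ normalizer (K : Set X)) : (K.subgroupOf (sSup S)).Normal :=
  normal_subgroupOf_of_le_normalizer (sSup_le hn)

theorem component_cases (hS : ModuleStep.{u}) (G R : Subgroup X) (r : ℕ) [Fact r.Prime] (hR : Nat.card ↥R = r)
    (hcop : (Nat.card ↥G).Coprime r) (hnorm : R ≤ Subgroup.normalizer (G : Set X)) (K : Subgroup X) (hKG : K ≤ G)
    (hKq : Cfsg.IsQuasisimple ↥K)
    (hcomm : ∀ g ∈ R ⊔ (G ⊓ Subgroup.centralizer (R : Set X)), K.map (MulAut.conj g).toMonoidHom ≠ K →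
      ⁅K, K.map (MulAut.conj g).toMonoidHom⁆ = ⊥) :
    (K ≤ G ⊓ Subgroup.centralizer (R : Set X) ∧ Cfsg.IsComponent (K.subgroupOf (G ⊓ Subgroup.centralizer (R : Set X)))) ∨
      Cfsg.IsComponent (K.subgroupOf G) ∨
      ∃ L : Subgroup X, L ≤ G ∧ Cfsg.IsComponent (L.subgroupOf G) ∧
        (∀ a ∈ R, L.map (MulAut.conj a).toMonoidHom = L) ∧ K ≤ L := by
  have h : CommConj G R K r := ⟨Fact.out, hR, (Fact.out : r.Prime).coprime_iff_not_dvd.mp hcop.symm, hnorm, hKG, hKq, by
    simpa only [map_conj_eq_smul] using hcomm⟩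
  obtain ⟨C, hC⟩ : ∃ C, C = G ⊓ centralizer (R : Set X) := ⟨_, rfl⟩
  obtain ⟨Y, hY⟩ : ∃ Y, Y = R ⊔ C := ⟨_, rfl⟩
  have hnK : ∀ g ∈ Y, MulAut.conj g • K ≤ normalizer (K : Set X) := fun g hg => h.normalizes_conj (hC ▸ hY ▸ hg)
  by_cases hKR : R ≤ centralizer (K : Set X)
  · have hKC : K ≤ C := hC ▸ le_inf hKG (le_centralizer_iff.mp hKR)
    obtain ⟨E, hE⟩ : ∃ E, E = sSup ((fun g => MulAut.conj g • K) '' (C : Set X)) := ⟨_, rfl⟩
    have hEC : E ≤ C := hE ▸ sSup_le (by
      rintro _ ⟨g, hg, rfl⟩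
      exact (pointwise_smul_le_pointwise_smul_iff.mpr hKC).trans (conj_smul_eq_self_of_mem hg).le)
    have hKE : K ≤ E := hE ▸ le_sSup ⟨1, C.one_mem, by simp⟩
    have hCE : C ≤ normalizer (E : Set X) := fun y hy => by
      refine mem_normalizer_fintype fun z hz => ?_
      have step : MulAut.conj y • E ≤ E := by
        rw [← map_conj_eq_smul, map_le_iff_le_comap]
        conv_lhs => rw [hE]
        refine sSup_le ?_
        rintro _ ⟨x, hx, rfl⟩
        rw [← map_le_iff_le_comap, map_conj_eq_smul, conj_smul_conj_smul, hE]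
        exact le_sSup ⟨y * x, C.mul_mem hy hx, rfl⟩
      exact step (smul_mem_pointwise_smul z (MulAut.conj y) E hz)
    have hEK : E ≤ normalizer (K : Set X) := hE ▸ sSup_le (by
      rintro _ ⟨g, hg, rfl⟩; exact hnK g (hY ▸ mem_sup_right hg))
    have hsn : (K.subgroupOf C).IsSubnormal := by
      refine IsSubnormal.step (K.subgroupOf C) (E.subgroupOf C) (comap_mono hKE)
        (normal_subgroupOf_of_le_normalizer hCE).isSubnormal (normal_subgroupOf_of_le_normalizer ?_)
      rintro ⟨e, he⟩ heE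
      refine mem_normalizer_iff.mpr fun y => ?_
      rw [mem_subgroupOf, mem_subgroupOf]
      exact mem_normalizer_iff.mp (hEK heE) y
    exact Or.inl ⟨hC ▸ hKC, hC ▸ ⟨hsn, (isQuasisimple_subgroupOf_iff hKC).mpr hKq⟩⟩
  -- `R` moves `K`
  obtain ⟨E, hE⟩ : ∃ E, E = sSup ((fun g => MulAut.conj g • K) '' (Y : Set X)) := ⟨_, rfl⟩
  have hYG : Y ≤ normalizer (G : Set X) := hY ▸ sup_le hnorm (hC ▸ inf_le_left.trans le_normalizer)
  have hEG : E ≤ G := hE ▸ sSup_le (by
    rintro _ ⟨g, hg, rfl⟩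
    exact (pointwise_smul_le_pointwise_smul_iff.mpr hKG).trans (mem_normalizer_iff_smul.mp (hYG hg)).le)
  have hKE : K ≤ E := hE ▸ le_sSup ⟨1, Y.one_mem, by simp⟩
  have hYE : Y ≤ normalizer (E : Set X) := fun y hy => by
    refine mem_normalizer_fintype fun z hz => ?_
    have step : MulAut.conj y • E ≤ E := by
      rw [← map_conj_eq_smul, map_le_iff_le_comap]
      conv_lhs => rw [hE]
      refine sSup_le ?_
      rintro _ ⟨x, hx, rfl⟩
      rw [← map_le_iff_le_comap, map_conj_eq_smul, conj_smul_conj_smul, hE]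
      exact le_sSup ⟨y * x, Y.mul_mem hy hx, rfl⟩
    exact step (smul_mem_pointwise_smul z (MulAut.conj y) E hz)
  have hEK : E ≤ normalizer (K : Set X) := hE ▸ sSup_le (by rintro _ ⟨g, hg, rfl⟩; exact hnK g hg)
  obtain ⟨P, hP⟩ : ∃ P, P = ⁅E, R⁆ := ⟨_, rfl⟩
  have hRE : R ≤ normalizer (E : Set X) := (hY ▸ le_sup_left : R ≤ Y).trans hYE
  have hCE : C ≤ normalizer (E : Set X) := (hY ▸ le_sup_right : C ≤ Y).trans hYE
  have hPE : P ≤ E := hP ▸ commutator_le_left_of_le_normalizer hRE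
  have hYP : Y ≤ normalizer (P : Set X) := hY ▸ sup_le (hP ▸ right_le_normalizer_commutator R E) (fun c hc => by
    rw [mem_normalizer_iff_smul, hP, ← map_conj_eq_smul, Subgroup.map_commutator, map_conj_eq_smul, map_conj_eq_smul,
      mem_normalizer_iff_smul.mp (hCE hc)]
    congr 1
    exact mem_normalizer_iff_smul.mp (centralizer_le_normalizer _ (hC ▸ hc : c ∈ G ⊓ centralizer (R : Set X)).2))
  have hKP : K ≤ P := by
    by_contra hne
    have hKPn : K ≤ normalizer (P : Set X) := hKE.trans (hP ▸ left_le_normalizer_commutator R E)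
    haveI : ((K ⊓ P).subgroupOf K).Normal := normal_subgroupOf_of_le_normalizer fun k hk =>
      mem_normalizer_fintype fun y hy => ⟨K.mul_mem (K.mul_mem hk hy.1) (K.inv_mem hk),
        (mem_normalizer_iff.mp (hKPn hk) y).mp hy.2⟩
    rcases IsQuasisimple.eq_top_or_le_center hKq ((K ⊓ P).subgroupOf K) with e | e
    · exact hne ((subgroupOf_eq_top.mp e).trans inf_le_right)
    · have hcent : K ⊓ P ≤ centralizer (K : Set X) := fun z hz => mem_centralizer_iff.mpr fun k hk =>
        congrArg Subtype.val (mem_center_iff.mp (e (show (⟨z, hz.1⟩ : ↥K) ∈ (K ⊓ P).subgroupOf K from hz)) ⟨k, hk⟩)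
      have h1 : ⁅⁅P, K⁆, K⁆ = ⊥ := by
        refine le_bot_iff.mp ((commutator_mono (le_inf ?_ ?_) le_rfl).trans (commutator_eq_bot_iff_le_centralizer.mpr hcent).le)
        · rw [commutator_comm]; exact commutator_le_left_of_le_normalizer (hPE.trans hEK)
        · exact commutator_le_left_of_le_normalizer hKPn
      have h2 : K ≤ centralizer (P : Set X) := le_centralizer_of_perfect h.perfect h1
      have hKRP : ⁅K, R⁆ ≤ P := (commutator_mono hKE (le_refl R)).trans hP.ge
      have hPK : ⁅P, K⁆ = ⊥ := by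
        rw [commutator_comm]; exact commutator_eq_bot_iff_le_centralizer.mpr h2
      have h3 : ⁅⁅K, R⁆, K⁆ = ⊥ := le_bot_iff.mp ((commutator_mono hKRP (le_refl K)).trans hPK.le)
      have h4 : ⁅⁅K, K⁆, R⁆ = ⊥ :=
        commutator_commutator_eq_bot_of_rotate h3 (by rw [commutator_comm R K]; exact h3)
      rw [h.perfect, commutator_comm, commutator_eq_bot_iff_le_centralizer] at h4
      exact hKR h4
  have hEP : ⁅E, R⁆ = E := by
    rw [← hP]
    refine le_antisymm hPE ?_
    conv_lhs => rw [hE]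
    refine sSup_le ?_
    rintro _ ⟨g, hg, rfl⟩
    exact (pointwise_smul_le_pointwise_smul_iff.mpr hKP).trans (mem_normalizer_iff_smul.mp (hYP hg)).le
  have hKcomp : IsCompIn E K := by
    refine ⟨K.subgroupOf E, ⟨(normal_subgroupOf_of_le_normalizer hEK).isSubnormal,
      (isQuasisimple_subgroupOf_iff hKE).mpr hKq⟩, (map_subgroupOf_eq_of_le hKE).symm⟩
  have hKL : K ≤ layerSet G := (le_sSup (show K ∈ {D | IsCompIn E D} from hKcomp) : K ≤ layerSet E).trans
    (layerSet_le hS G R E r h.prime hR h.cop hnorm hEG hRE (hC ▸ hCE) hEP)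
  have toComp : ∀ D, IsCompIn G D → Cfsg.IsComponent (D.subgroupOf G) := by
    rintro D ⟨F, hF, rfl⟩
    rwa [← Subgroup.comap_subtype, comap_map_eq_self_of_injective G.subtype_injective]
  rcases h.of_layer hKL hKR with e | ⟨L, hL, hLR, hle⟩
  · exact Or.inr (Or.inl (toComp K e))
  · refine Or.inr (Or.inr ⟨L, hL.le, toComp L hL, fun a ha => ?_, hle⟩)
    rw [map_conj_eq_smul]
    exact mem_normalizer_iff_smul.mp (hLR ha)

end Cfsg.Agent.Grp.FlavellCoprime
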