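import Mathlib
import Cfsg.Agent.Lib.Grp.FlavellCoprime.Module
import Cfsg.Agent.S3041

/-!
The module step from the fixed-point theorem of Shult type.
-/

set_option autoImplicit false

namespace Cfsg.Agent.Grp.FlavellCoprime

universe u

theorem moduleStep : ModuleStep.{u} := by
  intro X _ _ G R _ htop r hr hR hcop p _ V _ _ _ _ ρ hρ hirr hfix
  rcases Cfsg.Agent.S3041.result G R htop r hr hR hcop ρ hρ hirr hfix with h | ⟨-, -, h⟩
  · rw [h]; exact IsPGroup.of_bot
  · exact h.1

end Cfsg.Agent.Grp.FlavellCoprime
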